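import Mathlib

set_option autoImplicit false

namespace Cfsg.Agent.Lib.Helper12

open Matrix

variable {F : Type*} [Field F]

/-- The fixed subfield of a ring automorphism. -/
def fixSub (σ : F ≃+* F) : Subfield F where
  carrier := {x | σ x = x}
  mul_mem' := by
    intro a b ha hb
    simp only [Set.mem_ofPred_eq] at *
    rw [map_mul, ha, hb]
  one_mem' := map_one σ
  add_mem' := by
    intro a b ha hb
    simp only [Set.mem_ofPred_eq] at *
    rw [map_add, ha, hb]
  zero_mem' := map_zero σ
  neg_mem' := by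
    intro a ha
    simp only [Set.mem_ofPred_eq] at *
    rw [map_neg, ha]
  inv_mem' := by
    intro a ha
    simp only [Set.mem_ofPred_eq] at *
    rw [map_inv₀, ha]

theorem mem_fixSub (σ : F ≃+* F) (x : F) : x ∈ fixSub σ ↔ σ x = x := Iff.rfl

theorem fixSub_eq (σ : F ≃+* F) :
    FixedPoints.subfield (Subgroup.zpowers (σ : RingAut F)) F = fixSub σ := by
  ext x
  rw [mem_fixSub]
  constructor
  · intro h
    exact h ⟨σ, Subgroup.mem_zpowers _⟩
  · intro h
    rintro ⟨g, hg⟩
    obtain ⟨k, rfl⟩ := Subgroup.mem_zpowers_iff.mp hg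
    show ((σ : RingAut F) ^ k) • x = x
    have h1 : (σ : RingAut F) ∈ MulAction.stabilizer (RingAut F) x := h
    exact Subgroup.zpow_mem _ h1 k

theorem card_fixSub_pow [Finite F] (σ : F ≃+* F) :
    Nat.card (fixSub σ) ^ orderOf σ = Nat.card F := by
  classical
  haveI := Fintype.ofFinite F
  haveI : Finite (RingAut F) := Finite.of_injective (fun e : F ≃+* F => (e : F → F)) DFunLike.coe_injective
  haveI : Fintype (Subgroup.zpowers (σ : RingAut F)) := Fintype.ofFinite _
  have h1 := FixedPoints.finrank_eq_card (Subgroup.zpowers (σ : RingAut F)) F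
  rw [← Nat.card_eq_fintype_card, Nat.card_zpowers] at h1
  have h2 := Module.natCard_eq_pow_finrank (K := FixedPoints.subfield (Subgroup.zpowers (σ : RingAut F)) F) (V := F)
  rw [h1] at h2
  rw [h2, fixSub_eq]

theorem card_fixSub [Finite F] (σ : F ≃+* F) {q₀ r : ℕ} (hr : r ≠ 0) (hσ : orderOf σ = r)
    (hF : Nat.card F = q₀ ^ r) : Nat.card (fixSub σ) = q₀ := by
  have h := card_fixSub_pow σ
  rw [hσ, hF] at h
  exact Nat.pow_left_injective hr h

/-- A non-zero matrix that is an eigenvector of the entrywise automorphism is a scalar multiple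
of a fixed matrix. -/
theorem exists_fixed_of_semi {ι κ : Type*} (σ : F ≃+* F) (g : Matrix ι κ F) (hg : g ≠ 0) (c : F)
    (h : g.map σ = c • g) :
    ∃ a : F, a ≠ 0 ∧ ∃ h0 : Matrix ι κ (fixSub σ), g = a • h0.map (fixSub σ).subtype := by
  obtain ⟨i, j, hij⟩ : ∃ i j, g i j ≠ 0 := by
    by_contra hcon
    push Not at hcon
    exact hg (Matrix.ext hcon)
  have hc : σ (g i j) = c * g i j := by
    have := congrFun (congrFun h i) j
    simpa using this
  refine ⟨g i j, hij, Matrix.of fun k l => ⟨(g i j)⁻¹ * g k l, ?_⟩, ?_⟩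
  · rw [mem_fixSub, map_mul, map_inv₀, hc]
    have : σ (g k l) = c * g k l := by
      have := congrFun (congrFun h k) l
      simpa using this
    rw [this]
    have hc0 : c ≠ 0 := by
      rintro rfl
      rw [zero_mul] at hc
      exact hij ((map_eq_zero σ).mp hc)
    field_simp
  · ext k l
    simp only [Matrix.smul_apply, Matrix.map_apply, Matrix.of_apply, Subfield.coe_subtype,
      smul_eq_mul]
    field_simp

theorem card_eq_range_mul_ker {A B : Type*} [Group A] [Group B] (Φ : A →* B) :
    Nat.card A = Nat.card Φ.range * Nat.card Φ.ker := by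
  rw [Subgroup.card_eq_card_quotient_mul_card_subgroup Φ.ker,
    Nat.card_congr (QuotientGroup.quotientKerEquivRange Φ).toEquiv]

/-- scalars times the subfield general linear group. -/
noncomputable def semiHom (σ : F ≃+* F) (n : ℕ) :
    Fˣ × GL (Fin n) (fixSub σ) →* GL (Fin n) F where
  toFun p := GeneralLinearGroup.scalar (Fin n) p.1 *
    GeneralLinearGroup.map (fixSub σ).subtype p.2
  map_one' := by simp
  map_mul' p q := by
    simp only [Prod.fst_mul, Prod.snd_mul, map_mul]
    have hc := GeneralLinearGroup.scalar_commute q.1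
      (GeneralLinearGroup.map (n := Fin n) (fixSub σ).subtype p.2)
    rw [mul_assoc, ← mul_assoc (GeneralLinearGroup.scalar (Fin n) q.1), hc, mul_assoc, mul_assoc]

theorem semiHom_val (σ : F ≃+* F) (n : ℕ) (p : Fˣ × GL (Fin n) (fixSub σ)) :
    (semiHom σ n p : Matrix (Fin n) (Fin n) F) =
      (p.1 : F) • (p.2 : Matrix (Fin n) (Fin n) (fixSub σ)).map (fixSub σ).subtype := by
  ext i j
  simp [semiHom, GeneralLinearGroup.coe_scalar, GeneralLinearGroup.map]

theorem mem_range_semiHom (σ : F ≃+* F) {n : ℕ} (hn : 1 ≤ n) (g : GL (Fin n) F) :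
    g ∈ (semiHom σ n).range ↔
      ∃ c : F, c ≠ 0 ∧ (g : Matrix (Fin n) (Fin n) F).map σ = c • (g : Matrix (Fin n) (Fin n) F) := by
  constructor
  · rintro ⟨p, rfl⟩
    refine ⟨σ p.1 * (p.1 : F)⁻¹, mul_ne_zero ((map_ne_zero σ).mpr p.1.ne_zero)
      (inv_ne_zero p.1.ne_zero), ?_⟩
    rw [semiHom_val]
    ext i j
    have h1 : σ ((p.2 : Matrix (Fin n) (Fin n) (fixSub σ)) i j : F) =
        ((p.2 : Matrix (Fin n) (Fin n) (fixSub σ)) i j : F) :=
      ((p.2 : Matrix (Fin n) (Fin n) (fixSub σ)) i j).2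
    have h2 : (p.1 : F) ≠ 0 := p.1.ne_zero
    simp only [Matrix.smul_apply, Matrix.map_apply, Subfield.coe_subtype, smul_eq_mul, map_mul, h1]
    field_simp
  · rintro ⟨c, hc, h⟩
    haveI : Nonempty (Fin n) := ⟨⟨0, hn⟩⟩
    have hg : (g : Matrix (Fin n) (Fin n) F) ≠ 0 := g.ne_zero
    obtain ⟨a, ha, h0, hgh⟩ := exists_fixed_of_semi σ _ hg c h
    have hdet : h0.det ≠ 0 := by
      intro hd
      have h3 : (g : Matrix (Fin n) (Fin n) F).det = 0 := by
        rw [hgh, Matrix.det_smul]
        have : (h0.map (fixSub σ).subtype).det = (fixSub σ).subtype h0.det := by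
          rw [RingHom.map_det]; rfl
        rw [this, hd, map_zero, mul_zero]
      have h4 : IsUnit (g : Matrix (Fin n) (Fin n) F).det :=
        (Matrix.isUnit_iff_isUnit_det _).mp g.isUnit
      rw [h3] at h4
      exact not_isUnit_zero h4
    refine ⟨(Units.mk0 a ha, GeneralLinearGroup.mkOfDetNeZero h0 hdet), ?_⟩
    apply Units.ext
    rw [semiHom_val, hgh]
    rfl

theorem card_ker_semiHom (σ : F ≃+* F) {n : ℕ} (hn : 1 ≤ n) :
    Nat.card (semiHom σ n).ker = Nat.card (fixSub σ)ˣ := by
  symm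
  refine Nat.card_congr (Equiv.ofBijective (fun u : (fixSub σ)ˣ =>
    (⟨(Units.map (fixSub σ).subtype.toMonoidHom u⁻¹, GeneralLinearGroup.scalar (Fin n) u), ?_⟩ :
      (semiHom σ n).ker)) ⟨?_, ?_⟩)
  · rw [MonoidHom.mem_ker]
    apply Units.ext
    rw [semiHom_val]
    ext i j
    have hu : ((u : fixSub σ) : F) ≠ 0 := by
      intro h
      exact u.ne_zero (Subtype.ext h)
    by_cases hij : i = j
    · subst hij
      simp [GeneralLinearGroup.coe_scalar, hu]
    · simp [GeneralLinearGroup.coe_scalar, hij]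
  · intro u v huv
    have h1 := congrArg (fun x : (semiHom σ n).ker => ((x : Fˣ × GL (Fin n) (fixSub σ)).1 : F)) huv
    simp only [Units.coe_map, RingHom.toMonoidHom_eq_coe, MonoidHom.coe_coe,
      Subfield.coe_subtype] at h1
    have h2 : u⁻¹ = v⁻¹ := Units.ext (Subtype.ext h1)
    exact inv_injective h2
  · rintro ⟨⟨a, h⟩, hk⟩
    rw [MonoidHom.mem_ker] at hk
    have hk' := congrArg (fun x : GL (Fin n) F => (x : Matrix (Fin n) (Fin n) F)) hk
    simp only [semiHom_val, Units.val_one] at hk'
    have hent : ∀ i j, (a : F) * ((h : Matrix (Fin n) (Fin n) (fixSub σ)) i j : F) =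
        (1 : Matrix (Fin n) (Fin n) F) i j := by
      intro i j
      have := congrFun (congrFun hk' i) j
      simpa using this
    have h00 := hent ⟨0, hn⟩ ⟨0, hn⟩
    rw [Matrix.one_apply_eq] at h00
    set u0 : fixSub σ := (h : Matrix (Fin n) (Fin n) (fixSub σ)) ⟨0, hn⟩ ⟨0, hn⟩ with hu0
    have hu0ne : u0 ≠ 0 := by
      intro h0
      rw [h0] at h00
      simp at h00
    refine ⟨Units.mk0 u0 hu0ne, ?_⟩
    apply Subtype.ext
    apply Prod.ext
    · apply Units.ext
      simp only [Units.coe_map, RingHom.toMonoidHom_eq_coe, MonoidHom.coe_coe,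
        Subfield.coe_subtype]
      have h5 : (((Units.mk0 u0 hu0ne)⁻¹ : (fixSub σ)ˣ) : fixSub σ) = u0⁻¹ := by
        simp
      rw [h5]
      have hu0F : (u0 : F) ≠ 0 := fun h => hu0ne (Subtype.ext h)
      push_cast
      field_simp
      rw [mul_comm]; exact h00.symm
    · apply Units.ext
      ext i j
      have h6 := hent i j
      have ha : (a : F) ≠ 0 := a.ne_zero
      by_cases hij : i = j
      · subst hij
        rw [Matrix.one_apply_eq, ← h00] at h6
        have h7 := mul_left_cancel₀ ha h6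
        simp [GeneralLinearGroup.coe_scalar, h7]
      · rw [Matrix.one_apply_ne hij] at h6
        have h7 : ((h : Matrix (Fin n) (Fin n) (fixSub σ)) i j : F) = 0 := by
          rcases mul_eq_zero.mp h6 with h | h
          · exact absurd h ha
          · exact h
        simp [GeneralLinearGroup.coe_scalar, hij, h7]

end Cfsg.Agent.Lib.Helper12
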