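import Mathlib
import Cfsg.Agent.Lib.Helper14.ClassCard

set_option autoImplicit false

namespace Cfsg.Agent.Lib.Helper12

section klein
variable {G : Type*} [Group G]

/-- the four-group generated by two commuting involutions. -/
def K4 (s t : G) (hs : s * s = 1) (ht : t * t = 1) (hst : s * t = t * s) : Subgroup G where
  carrier := {1, s, t, s * t}
  mul_mem' := by
    intro a b ha hb
    have e1 : s * (s * t) = t := by rw [← mul_assoc, hs, one_mul]
    have e2 : t * s = s * t := hst.symm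
    have e3 : t * (s * t) = s := by rw [← mul_assoc, e2, mul_assoc, ht, mul_one]
    have e4 : s * t * s = t := by rw [mul_assoc, e2, e1]
    have e5 : s * t * t = s := by rw [mul_assoc, ht, mul_one]
    have e6 : s * t * (s * t) = 1 := by rw [mul_assoc, e3, hs]
    simp only [Set.mem_insert_iff, Set.mem_singleton_iff] at ha hb ⊢
    rcases ha with rfl | rfl | rfl | rfl <;> rcases hb with rfl | rfl | rfl | rfl <;>
      simp [hs, ht, e1, e2, e3, e4, e5, e6]
  one_mem' := by simp
  inv_mem' := by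
    intro a ha
    have e3 : t * (s * t) = s := by rw [← mul_assoc, hst.symm, mul_assoc, ht, mul_one]
    have e6 : s * t * (s * t) = 1 := by rw [mul_assoc, e3, hs]
    have i1 : s⁻¹ = s := inv_eq_of_mul_eq_one_right hs
    have i2 : t⁻¹ = t := inv_eq_of_mul_eq_one_right ht
    have i3 : (s * t)⁻¹ = s * t := inv_eq_of_mul_eq_one_right e6
    simp only [Set.mem_insert_iff, Set.mem_singleton_iff] at ha ⊢
    rcases ha with rfl | rfl | rfl | rfl
    · simp
    · rw [i1]; simp
    · rw [i2]; simp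
    · rw [i3]; simp

theorem mem_K4 (s t : G) (hs : s * s = 1) (ht : t * t = 1) (hst : s * t = t * s) (x : G) :
    x ∈ K4 s t hs ht hst ↔ x = 1 ∨ x = s ∨ x = t ∨ x = s * t := Iff.rfl

theorem card_K4 (s t : G) (hs : s * s = 1) (ht : t * t = 1) (hst : s * t = t * s)
    (hs1 : s ≠ 1) (ht1 : t ≠ 1) (hne : s ≠ t) : Nat.card (K4 s t hs ht hst) = 4 := by
  have h1 : Nat.card (K4 s t hs ht hst) = ({1, s, t, s * t} : Set G).ncard := rfl
  rw [h1, Set.ncard_insert_of_notMem, Set.ncard_insert_of_notMem, Set.ncard_insert_of_notMem,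
    Set.ncard_singleton]
  · simp only [Set.mem_singleton_iff]
    intro h
    exact hs1 (mul_eq_right.mp h.symm)
  · simp only [Set.mem_insert_iff, Set.mem_singleton_iff]
    rintro (h | h)
    · exact hne h
    · exact ht1 (mul_eq_left.mp h.symm)
  · simp only [Set.mem_insert_iff, Set.mem_singleton_iff]
    rintro (h | h | h)
    · exact hs1 h.symm
    · exact ht1 h.symm
    · apply hne
      have : s * t = s * s := by rw [hs, ← h]
      exact (mul_left_cancel this).symm

theorem isKleinFour_K4 (s t : G) (hs : s * s = 1) (ht : t * t = 1) (hst : s * t = t * s)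
    (hs1 : s ≠ 1) (ht1 : t ≠ 1) (hne : s ≠ t) : IsKleinFour (K4 s t hs ht hst) where
  card_four := card_K4 s t hs ht hst hs1 ht1 hne
  exponent_two := by
    have e3 : t * (s * t) = s := by rw [← mul_assoc, hst.symm, mul_assoc, ht, mul_one]
    have e6 : s * t * (s * t) = 1 := by rw [mul_assoc, e3, hs]
    have hdvd : Monoid.exponent (K4 s t hs ht hst) ∣ 2 := by
      apply Monoid.exponent_dvd_of_forall_pow_eq_one
      rintro ⟨x, hx⟩
      apply Subtype.ext
      show x ^ 2 = 1
      rw [pow_two]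
      rcases (mem_K4 s t hs ht hst x).mp hx with rfl | rfl | rfl | rfl
      · simp
      · exact hs
      · exact ht
      · exact e6
    rcases (Nat.dvd_prime Nat.prime_two).mp hdvd with h | h
    · exfalso
      have := Monoid.exp_eq_one_iff.mp h
      have h4 := card_K4 s t hs ht hst hs1 ht1 hne
      rw [Nat.card_unique] at h4
      omega
    · exact h

theorem comm_of_sq (x y : G) (hx : x * x = 1) (hy : y * y = 1) (hxy : (x * y) * (x * y) = 1) :
    x * y = y * x := by
  symm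
  calc y * x = (x * x) * (y * x) * (y * y) := by rw [hx, hy]; group
    _ = x * ((x * y) * (x * y)) * y := by group
    _ = x * y := by rw [hxy]; group

theorem orderOf_two_iff (x : G) : orderOf x = 2 ↔ x * x = 1 ∧ x ≠ 1 := by
  constructor
  · intro h
    constructor
    · rw [← pow_two, ← h]; exact pow_orderOf_eq_one x
    · rintro rfl
      rw [orderOf_one] at h
      omega
  · rintro ⟨h1, h2⟩
    exact orderOf_eq_prime (by rw [pow_two]; exact h1) h2

/-- ordered pairs of distinct commuting involutions. -/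
def InvPair (G : Type*) [Group G] :=
  {p : G × G // orderOf p.1 = 2 ∧ orderOf p.2 = 2 ∧ p.1 ≠ p.2 ∧ p.1 * p.2 = p.2 * p.1}

theorem six_mul_card_klein [Finite G] :
    6 * Nat.card {V : Subgroup G // IsKleinFour V} = Nat.card (InvPair G) := by
  classical
  haveI := Fintype.ofFinite G
  haveI : Fintype {V : Subgroup G // IsKleinFour V} := Fintype.ofFinite _
  have hsq : ∀ V : Subgroup G, IsKleinFour V → ∀ x ∈ V, x * x = 1 := by
    intro V hV x hx
    have := IsKleinFour.mul_self (⟨x, hx⟩ : V)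
    exact congrArg Subtype.val this
  have hfib : ∀ V : {V : Subgroup G // IsKleinFour V},
      Nat.card {p : G × G // p.1 ∈ V.1 ∧ p.2 ∈ V.1 ∧ p.1 ≠ 1 ∧ p.2 ≠ 1 ∧ p.1 ≠ p.2} = 6 := by
    intro V
    set S : Finset G := Finset.univ.filter (fun x => x ∈ V.1 ∧ x ≠ 1) with hS
    have hScard : S.card = 3 := by
      have h4 : (Finset.univ.filter (fun x : G => x ∈ V.1)).card = 4 := by
        rw [← Fintype.card_subtype, ← Nat.card_eq_fintype_card]
        exact V.2.card_four
      have h5 : S = (Finset.univ.filter (fun x : G => x ∈ V.1)).erase 1 := by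
        ext x
        simp only [hS, Finset.mem_filter, Finset.mem_univ, true_and, Finset.mem_erase]
        tauto
      rw [h5, Finset.card_erase_of_mem (by simp [V.1.one_mem]), h4]
    have h6 : Nat.card {p : G × G // p.1 ∈ V.1 ∧ p.2 ∈ V.1 ∧ p.1 ≠ 1 ∧ p.2 ≠ 1 ∧ p.1 ≠ p.2} =
        S.offDiag.card := by
      rw [Nat.card_eq_fintype_card, Fintype.card_subtype]
      congr 1
      ext p
      simp only [hS, Finset.mem_filter, Finset.mem_univ, true_and, Finset.mem_offDiag]
      tauto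
    rw [h6, Finset.offDiag_card, hScard]
  have hsig : Nat.card (Σ V : {V : Subgroup G // IsKleinFour V},
      {p : G × G // p.1 ∈ V.1 ∧ p.2 ∈ V.1 ∧ p.1 ≠ 1 ∧ p.2 ≠ 1 ∧ p.1 ≠ p.2}) =
      6 * Nat.card {V : Subgroup G // IsKleinFour V} := by
    rw [Nat.card_sigma]
    simp_rw [hfib]
    rw [Finset.sum_const, Finset.card_univ, Nat.card_eq_fintype_card, smul_eq_mul, mul_comm]
  rw [← hsig]
  apply Nat.card_congr
  have huniq : ∀ (V : Subgroup G) (hV : IsKleinFour V) (s t : G) (hs : s * s = 1) (ht : t * t = 1)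
      (hst : s * t = t * s), s ∈ V → t ∈ V → s ≠ 1 → t ≠ 1 → s ≠ t → K4 s t hs ht hst = V := by
    intro V hV s t hs ht hst hsV htV hs1 ht1 hne
    haveI : Finite V := Nat.finite_of_card_ne_zero (by rw [hV.card_four]; norm_num)
    apply Subgroup.eq_of_le_of_card_ge
    · intro x hx
      rcases (mem_K4 s t hs ht hst x).mp hx with rfl | rfl | rfl | rfl
      · exact V.one_mem
      · exact hsV
      · exact htV
      · exact V.mul_mem hsV htV
    · rw [hV.card_four, card_K4 s t hs ht hst hs1 ht1 hne]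
  refine Equiv.ofBijective (fun x => ⟨x.2.1, ?_, ?_, ?_, ?_⟩) ⟨?_, ?_⟩
  · exact (orderOf_two_iff _).mpr ⟨hsq x.1.1 x.1.2 _ x.2.2.1, x.2.2.2.2.1⟩
  · exact (orderOf_two_iff _).mpr ⟨hsq x.1.1 x.1.2 _ x.2.2.2.1, x.2.2.2.2.2.1⟩
  · exact x.2.2.2.2.2.2
  · exact comm_of_sq _ _ (hsq x.1.1 x.1.2 _ x.2.2.1) (hsq x.1.1 x.1.2 _ x.2.2.2.1)
      (hsq x.1.1 x.1.2 _ (x.1.1.mul_mem x.2.2.1 x.2.2.2.1))
  · rintro ⟨V, ⟨⟨s, t⟩, hp⟩⟩ ⟨V', ⟨⟨s', t'⟩, hp'⟩⟩ h
    have h1 : (s, t) = (s', t') := congrArg Subtype.val h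
    obtain ⟨rfl, rfl⟩ := Prod.mk.inj h1
    simp only at hp hp'
    have hs := hsq V.1 V.2 s hp.1
    have ht := hsq V.1 V.2 t hp.2.1
    have hst := comm_of_sq s t hs ht (hsq V.1 V.2 _ (V.1.mul_mem hp.1 hp.2.1))
    have e1 := huniq V.1 V.2 s t hs ht hst hp.1 hp.2.1 hp.2.2.1 hp.2.2.2.1 hp.2.2.2.2
    have e2 := huniq V'.1 V'.2 s t hs ht hst hp'.1 hp'.2.1 hp'.2.2.1 hp'.2.2.2.1 hp'.2.2.2.2
    apply Sigma.subtype_ext
    · exact Subtype.ext (e1.symm.trans e2)
    · rfl
  · rintro ⟨⟨s, t⟩, h1, h2, h3, h4⟩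
    simp only at h1 h2 h3 h4
    obtain ⟨hs, hs1⟩ := (orderOf_two_iff s).mp h1
    obtain ⟨ht, ht1⟩ := (orderOf_two_iff t).mp h2
    refine ⟨⟨⟨K4 s t hs ht h4, isKleinFour_K4 s t hs ht h4 hs1 ht1 h3⟩, ⟨(s, t), ?_, ?_, hs1, ht1, h3⟩⟩,
      rfl⟩
    · exact (mem_K4 s t hs ht h4 s).mpr (Or.inr (Or.inl rfl))
    · exact (mem_K4 s t hs ht h4 t).mpr (Or.inr (Or.inr (Or.inl rfl)))

/-- counting pairs when involutions form one class and half of each centraliser are
"other" involutions. -/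
theorem two_mul_card_invPair [Finite G] (s₀ : G) (hs₀ : orderOf s₀ = 2)
    (hconj : ∀ s t : G, orderOf s = 2 → orderOf t = 2 → IsConj s t)
    (hhalf : ∀ s : G, orderOf s = 2 →
      2 * Nat.card {t : G // orderOf t = 2 ∧ s ≠ t ∧ s * t = t * s} =
        Nat.card (Subgroup.centralizer ({s} : Set G))) :
    2 * Nat.card (InvPair G) = Nat.card G := by
  classical
  haveI := Fintype.ofFinite G
  have hI : ∀ s : {s : G // orderOf s = 2}, Nat.card {s : G // orderOf s = 2} *
      Nat.card (Subgroup.centralizer ({s.1} : Set G)) = Nat.card G := by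
    intro s
    rw [← Cfsg.Agent.Lib.Helper14.card_carrier_mul_card_centralizer s.1]
    congr 1
    apply Nat.card_congr
    apply Equiv.subtypeEquivRight
    intro t
    rw [ConjClasses.mem_carrier_iff_mk_eq, ConjClasses.mk_eq_mk_iff_isConj]
    constructor
    · intro ht
      exact hconj t s.1 ht s.2
    · intro ht
      obtain ⟨c, hc⟩ := isConj_iff.mp ht
      rw [← s.2, ← hc]
      exact ((MulAut.conj c).orderOf_eq t).symm
  have hP : Nat.card (InvPair G) = ∑ s : {s : G // orderOf s = 2},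
      Nat.card {t : G // orderOf t = 2 ∧ s.1 ≠ t ∧ s.1 * t = t * s.1} := by
    rw [← Nat.card_sigma]
    apply Nat.card_congr
    exact ⟨fun p => ⟨⟨p.1.1, p.2.1⟩, ⟨p.1.2, p.2.2⟩⟩, fun x => ⟨(x.1.1, x.2.1), x.1.2, x.2.2⟩,
      fun _ => rfl, fun _ => rfl⟩
  have hpos : 0 < Nat.card {s : G // orderOf s = 2} := by
    haveI : Nonempty {s : G // orderOf s = 2} := ⟨⟨s₀, hs₀⟩⟩
    exact Nat.card_pos
  apply Nat.eq_of_mul_eq_mul_left hpos
  rw [hP, Finset.mul_sum, Finset.mul_sum]
  have : ∀ s : {s : G // orderOf s = 2}, Nat.card {s : G // orderOf s = 2} *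
      (2 * Nat.card {t : G // orderOf t = 2 ∧ s.1 ≠ t ∧ s.1 * t = t * s.1}) = Nat.card G := by
    intro s
    rw [hhalf s.1 s.2, hI s]
  simp_rw [this]
  rw [Finset.sum_const, Finset.card_univ, ← Nat.card_eq_fintype_card, smul_eq_mul]

end klein

end Cfsg.Agent.Lib.Helper12
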