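import Mathlib
import Cfsg.Agent.Lib.Helper12.KleinCount

set_option autoImplicit false

namespace Cfsg.Agent.Lib.Helper12

section kleinconj
variable {G : Type*} [Group G]

theorem klein_sq (V : Subgroup G) (hV : IsKleinFour V) (x : G) (hx : x ∈ V) : x * x = 1 := by
  have := IsKleinFour.mul_self (⟨x, hx⟩ : V)
  exact congrArg Subtype.val this

theorem klein_mem (V : Subgroup G) (hV : IsKleinFour V) (s t : G) (hs : s ∈ V) (ht : t ∈ V)
    (hs1 : s ≠ 1) (ht1 : t ≠ 1) (hne : s ≠ t) (x : G) (hx : x ∈ V) :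
    x = 1 ∨ x = s ∨ x = t ∨ x = s * t := by
  have hss := klein_sq V hV s hs
  have htt := klein_sq V hV t ht
  have hst := comm_of_sq s t hss htt (klein_sq V hV _ (V.mul_mem hs ht))
  haveI : Finite V := Nat.finite_of_card_ne_zero (by rw [hV.card_four]; norm_num)
  have h : K4 s t hss htt hst = V := by
    apply Subgroup.eq_of_le_of_card_ge
    · intro x hx
      rcases (mem_K4 s t hss htt hst x).mp hx with rfl | rfl | rfl | rfl
      · exact V.one_mem
      · exact hs
      · exact ht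
      · exact V.mul_mem hs ht
    · rw [hV.card_four, card_K4 s t hss htt hst hs1 ht1 hne]
  rw [← h] at hx
  exact (mem_K4 s t hss htt hst x).mp hx

theorem klein_exists (V : Subgroup G) (hV : IsKleinFour V) :
    ∃ s t, s ∈ V ∧ t ∈ V ∧ s ≠ 1 ∧ t ≠ 1 ∧ s ≠ t := by
  have h4 : (V : Set G).ncard = 4 := hV.card_four
  obtain ⟨s, hs, hs1⟩ := Set.exists_mem_notMem_of_ncard_lt_ncard (s := ({1} : Set G))
    (t := (V : Set G)) (by rw [h4, Set.ncard_singleton]; norm_num)
  obtain ⟨t, ht, ht1⟩ := Set.exists_mem_notMem_of_ncard_lt_ncard (s := ({1, s} : Set G))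
    (t := (V : Set G)) (by
      rw [h4]
      exact lt_of_le_of_lt (Set.ncard_insert_le _ _) (by rw [Set.ncard_singleton]; norm_num))
  simp only [Set.mem_insert_iff, Set.mem_singleton_iff, not_or] at hs1 ht1
  exact ⟨s, t, hs, ht, hs1, ht1.1, fun h => ht1.2 h.symm⟩

theorem klein_map_eq (V W : Subgroup G) (hV : IsKleinFour V) (hW : IsKleinFour W) (s t : G)
    (hs : s ∈ V) (ht : t ∈ V) (hs1 : s ≠ 1) (ht1 : t ≠ 1) (hne : s ≠ t) (g : G)
    (h1 : g * s * g⁻¹ ∈ W) (h2 : g * t * g⁻¹ ∈ W) : W = V.map (MulAut.conj g).toMonoidHom := by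
  haveI : Finite W := Nat.finite_of_card_ne_zero (by rw [hW.card_four]; norm_num)
  symm
  apply Subgroup.eq_of_le_of_card_ge
  · rintro _ ⟨x, hx, rfl⟩
    show g * x * g⁻¹ ∈ W
    rcases klein_mem V hV s t hs ht hs1 ht1 hne x hx with rfl | rfl | rfl | rfl
    · simp [W.one_mem]
    · exact h1
    · exact h2
    · have : g * (s * t) * g⁻¹ = (g * s * g⁻¹) * (g * t * g⁻¹) := by group
      rw [this]
      exact W.mul_mem h1 h2
  · rw [hW.card_four, Subgroup.card_map_of_injective (MulAut.conj g).injective, hV.card_four]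

theorem map_conj_eq_iff [Finite G] (V : Subgroup G) (g h : G) :
    V.map (MulAut.conj g).toMonoidHom = V.map (MulAut.conj h).toMonoidHom ↔
      g⁻¹ * h ∈ Subgroup.normalizer (V : Set G) := by
  rw [Subgroup.mem_normalizer_iff]
  constructor
  · intro H x
    constructor
    · intro hx
      have h1 : h * x * h⁻¹ ∈ V.map (MulAut.conj g).toMonoidHom := by
        rw [H]; exact ⟨x, hx, rfl⟩
      obtain ⟨y, hy, hyx⟩ := h1
      have h2 : g * y * g⁻¹ = h * x * h⁻¹ := hyx
      have h3 : g⁻¹ * h * x * (g⁻¹ * h)⁻¹ = y := by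
        calc g⁻¹ * h * x * (g⁻¹ * h)⁻¹ = g⁻¹ * (h * x * h⁻¹) * g := by group
          _ = y := by rw [← h2]; group
      rw [h3]; exact hy
    · intro hx
      have h1 : g * (g⁻¹ * h * x * (g⁻¹ * h)⁻¹) * g⁻¹ ∈ V.map (MulAut.conj h).toMonoidHom := by
        rw [← H]; exact ⟨_, hx, rfl⟩
      obtain ⟨y, hy, hyx⟩ := h1
      have h2 : h * y * h⁻¹ = g * (g⁻¹ * h * x * (g⁻¹ * h)⁻¹) * g⁻¹ := hyx
      have h3 : x = y := by
        calc x = h⁻¹ * (g * (g⁻¹ * h * x * (g⁻¹ * h)⁻¹) * g⁻¹) * h := by group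
          _ = y := by rw [← h2]; group
      rw [h3]; exact hy
  · intro H
    ext z
    constructor
    · rintro ⟨x, hx, rfl⟩
      refine ⟨(g⁻¹ * h)⁻¹ * x * (g⁻¹ * h), ?_, ?_⟩
      · apply (H _).mpr
        have : g⁻¹ * h * ((g⁻¹ * h)⁻¹ * x * (g⁻¹ * h)) * (g⁻¹ * h)⁻¹ = x := by group
        rw [this]; exact hx
      · show h * ((g⁻¹ * h)⁻¹ * x * (g⁻¹ * h)) * h⁻¹ = g * x * g⁻¹
        group
    · rintro ⟨x, hx, rfl⟩
      refine ⟨g⁻¹ * h * x * (g⁻¹ * h)⁻¹, (H x).mp hx, ?_⟩
      show g * (g⁻¹ * h * x * (g⁻¹ * h)⁻¹) * g⁻¹ = h * x * h⁻¹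
      group

theorem card_conj_orbit [Finite G] (P : Subgroup G → Prop) (V : Subgroup G)
    (hinv : ∀ g, P (V.map (MulAut.conj g).toMonoidHom))
    (hall : ∀ W, P W → ∃ g, W = V.map (MulAut.conj g).toMonoidHom) :
    Nat.card {W : Subgroup G // P W} * Nat.card (Subgroup.normalizer (V : Set G)) = Nat.card G := by
  rw [Subgroup.card_eq_card_quotient_mul_card_subgroup (Subgroup.normalizer (V : Set G))]
  congr 1
  symm
  apply Nat.card_congr
  refine Equiv.ofBijective (fun x => Quotient.liftOn' x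
    (fun g => (⟨V.map (MulAut.conj g).toMonoidHom, hinv g⟩ : {W : Subgroup G // P W})) ?_) ⟨?_, ?_⟩
  · intro a b hab
    apply Subtype.ext
    exact (map_conj_eq_iff V a b).mpr (QuotientGroup.leftRel_apply.mp hab)
  · intro x y
    induction x using Quotient.inductionOn' with | _ a => ?_
    induction y using Quotient.inductionOn' with | _ b => ?_
    intro hab
    apply Quotient.sound'
    apply QuotientGroup.leftRel_apply.mpr
    exact (map_conj_eq_iff V a b).mp (congrArg Subtype.val hab)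
  · rintro ⟨W, hW⟩
    obtain ⟨g, rfl⟩ := hall W hW
    exact ⟨Quotient.mk'' g, rfl⟩

/-- an element outside `V` normalising `V` with square in `V` forces `2 |V|` to divide `|N(V)|`. -/
theorem two_mul_card_dvd_normalizer [Finite G] (V : Subgroup G) (s : G)
    (hs : s ∈ Subgroup.normalizer (V : Set G)) (hsV : s ∉ V) (hs2 : s * s ∈ V) :
    2 * Nat.card V ∣ Nat.card (Subgroup.normalizer (V : Set G)) := by
  set N := Subgroup.normalizer (V : Set G) with hN
  have hVN : V ≤ N := Subgroup.le_normalizer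
  haveI : (V.subgroupOf N).Normal := Subgroup.normal_in_normalizer
  have h1 := Subgroup.card_eq_card_quotient_mul_card_subgroup (V.subgroupOf N)
  rw [Nat.card_congr (Subgroup.subgroupOfEquivOfLe hVN).toEquiv] at h1
  rw [h1]
  apply Nat.mul_dvd_mul_right
  have h2 : orderOf (QuotientGroup.mk' (V.subgroupOf N) ⟨s, hs⟩) = 2 := by
    apply orderOf_eq_prime
    · rw [← map_pow, QuotientGroup.mk'_apply, QuotientGroup.eq_one_iff, Subgroup.mem_subgroupOf]
      show s ^ 2 ∈ V
      rw [pow_two]; exact hs2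
    · rw [QuotientGroup.mk'_apply, ne_eq, QuotientGroup.eq_one_iff, Subgroup.mem_subgroupOf]
      exact hsV
  rw [← h2]
  exact orderOf_dvd_natCard _

end kleinconj

end Cfsg.Agent.Lib.Helper12
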