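import Mathlib

set_option autoImplicit false

namespace Cfsg.Agent.Lib.Helper12

open Matrix

section
variable {F : Type*} [Field F] [Fintype F] {n : ℕ}

/-- fixed space of a matrix. -/
def fixSp (X : Matrix (Fin n) (Fin n) F) : Submodule F (Fin n → F) :=
  LinearMap.ker (Matrix.mulVecLin (X - 1))

theorem mem_fixSp (X : Matrix (Fin n) (Fin n) F) (v : Fin n → F) : v ∈ fixSp X ↔ X *ᵥ v = v := by
  rw [fixSp, LinearMap.mem_ker, Matrix.mulVecLin_apply, Matrix.sub_mulVec, Matrix.one_mulVec,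
    sub_eq_zero]

theorem card_inv_modEq (X : Matrix (Fin n) (Fin n) F) {r : ℕ} [Fact r.Prime] (hX : X ^ r = 1)
    (W : Submodule F (Fin n → F)) (hW : ∀ w ∈ W, X *ᵥ w ∈ W) :
    Nat.card W ≡ Nat.card (W ⊓ fixSp X : Submodule F (Fin n → F)) [MOD r] := by
  classical
  let f : Function.End W := fun w => ⟨X *ᵥ w.1, hW w.1 w.2⟩
  have hfk : ∀ (k : ℕ) (w : W), ((f ^ k) w).1 = (X ^ k) *ᵥ w.1 := by
    intro k
    induction k with
    | zero =>
      intro w
      rw [pow_zero, pow_zero, Matrix.one_mulVec]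
      rfl
    | succ k ih =>
      intro w
      rw [pow_succ']
      show X *ᵥ ((f ^ k) w).1 = _
      rw [ih, Matrix.mulVec_mulVec, ← pow_succ']
  have hf : f ^ r ^ 1 = 1 := by
    funext w
    apply Subtype.ext
    rw [pow_one, hfk, hX, Matrix.one_mulVec]
    rfl
  have h1 := Equiv.Perm.card_fixedPoints_modEq hf
  rw [Nat.card_eq_fintype_card, Nat.card_eq_fintype_card]
  refine h1.trans (Nat.ModEq.of_dvd (dvd_refl r) (congrArg (· % r) ?_))
  apply Fintype.card_congr
  refine ⟨fun w => ⟨w.1.1, w.1.2, (mem_fixSp X _).mpr (congrArg Subtype.val w.2)⟩,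
    fun w => ⟨⟨w.1, w.2.1⟩, Subtype.ext ((mem_fixSp X _).mp w.2.2)⟩, fun w => rfl, fun w => rfl⟩

theorem dvd_finrank_sub (X : Matrix (Fin n) (Fin n) F) {q r : ℕ} [Fact r.Prime]
    (hF : Fintype.card F = q) (hn : 1 ≤ n) (hi : orderOf (q : ZMod r) = n) (hX : X ^ r = 1)
    (W : Submodule F (Fin n → F)) (hW : ∀ w ∈ W, X *ᵥ w ∈ W) :
    n ∣ Module.finrank F W - Module.finrank F (W ⊓ fixSp X : Submodule F (Fin n → F)) := by
  have h1 := card_inv_modEq X hX W hW
  rw [Module.natCard_eq_pow_finrank (K := F) (V := W),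
    Module.natCard_eq_pow_finrank (K := F) (V := (W ⊓ fixSp X : Submodule F (Fin n → F))),
    Nat.card_eq_fintype_card, hF] at h1
  have h2 := (ZMod.natCast_eq_natCast_iff _ _ _).mpr h1
  push_cast at h2
  have hle : Module.finrank F (W ⊓ fixSp X : Submodule F (Fin n → F)) ≤ Module.finrank F W :=
    Submodule.finrank_mono inf_le_left
  have hq : IsUnit (q : ZMod r) := by
    have : IsOfFinOrder (q : ZMod r) := by
      rw [← orderOf_pos_iff, hi]; omega
    exact this.isUnit
  have hgoal : orderOf (q : ZMod r) ∣ Module.finrank F W -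
      Module.finrank F (W ⊓ fixSp X : Submodule F (Fin n → F)) := ?_
  · rwa [hi] at hgoal
  apply orderOf_dvd_of_pow_eq_one
  have h3 : (q : ZMod r) ^ (Module.finrank F W) = (q : ZMod r) ^ (Module.finrank F W -
      Module.finrank F (W ⊓ fixSp X : Submodule F (Fin n → F))) *
      (q : ZMod r) ^ (Module.finrank F (W ⊓ fixSp X : Submodule F (Fin n → F))) := by
    rw [← pow_add, Nat.sub_add_cancel hle]
  rw [h3] at h2
  have h4 := (hq.pow (Module.finrank F (W ⊓ fixSp X : Submodule F (Fin n → F)))).mul_right_cancel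
    (h2.trans (one_mul _).symm)
  exact h4

theorem irred_of_ppd (X : Matrix (Fin n) (Fin n) F) {q r : ℕ} [Fact r.Prime]
    (hF : Fintype.card F = q) (hn : 1 ≤ n) (hi : orderOf (q : ZMod r) = n) (hX : X ^ r = 1)
    (hX1 : X ≠ 1)
    (W : Submodule F (Fin n → F)) (hW : ∀ w ∈ W, X *ᵥ w ∈ W) : W = ⊥ ∨ W = ⊤ := by
  have hfix : fixSp X = ⊥ := by
    have h1 := dvd_finrank_sub X hF hn hi hX ⊤ (fun _ _ => trivial)
    rw [top_inf_eq, finrank_top, Module.finrank_fin_fun] at h1
    have h2 : Module.finrank F (fixSp X) ≤ n := by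
      have := Submodule.finrank_le (fixSp X)
      rwa [Module.finrank_fin_fun] at this
    have h3 : Module.finrank F (fixSp X) ≠ n := by
      intro h
      apply hX1
      have h4 : fixSp X = ⊤ := by
        apply Submodule.eq_top_of_finrank_eq
        rw [h, Module.finrank_fin_fun]
      apply Matrix.ext_of_mulVec_single
      intro i
      rw [Matrix.one_mulVec]
      exact (mem_fixSp X _).mp (h4 ▸ Submodule.mem_top)
    have h5 : Module.finrank F (fixSp X) = 0 := by
      by_contra h0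
      have := Nat.le_of_dvd (by omega) h1
      omega
    exact Submodule.finrank_eq_zero.mp h5
  have h1 := dvd_finrank_sub X hF hn hi hX W hW
  rw [hfix, inf_bot_eq, finrank_bot, Nat.sub_zero] at h1
  have h2 : Module.finrank F W ≤ n := by
    have := Submodule.finrank_le W
    rwa [Module.finrank_fin_fun] at this
  by_cases h0 : Module.finrank F W = 0
  · left; exact Submodule.finrank_eq_zero.mp h0
  · right
    apply Submodule.eq_top_of_finrank_eq
    rw [Module.finrank_fin_fun]
    exact le_antisymm h2 (Nat.le_of_dvd (by omega) h1)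

/-- Under irreducibility, a nonzero matrix commuting with `X` has trivial kernel. -/
theorem ker_eq_bot_of_comm (X : Matrix (Fin n) (Fin n) F)
    (hirr : ∀ W : Submodule F (Fin n → F), (∀ w ∈ W, X *ᵥ w ∈ W) → W = ⊥ ∨ W = ⊤)
    (d : Matrix (Fin n) (Fin n) F) (hd : d * X = X * d) (hd0 : d ≠ 0) (v : Fin n → F)
    (hv : d *ᵥ v = 0) : v = 0 := by
  have h1 := hirr (LinearMap.ker (Matrix.mulVecLin d)) (by
    intro w hw
    rw [LinearMap.mem_ker, Matrix.mulVecLin_apply] at hw ⊢
    rw [Matrix.mulVec_mulVec, hd, ← Matrix.mulVec_mulVec, hw, Matrix.mulVec_zero])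
  rcases h1 with h1 | h1
  · have : v ∈ LinearMap.ker (Matrix.mulVecLin d) := by
      rw [LinearMap.mem_ker, Matrix.mulVecLin_apply, hv]
    rw [h1] at this
    exact (Submodule.mem_bot F).mp this
  · exfalso
    apply hd0
    apply Matrix.ext_of_mulVec_single
    intro i
    have : Pi.single i 1 ∈ LinearMap.ker (Matrix.mulVecLin d) := h1 ▸ Submodule.mem_top
    rw [LinearMap.mem_ker, Matrix.mulVecLin_apply] at this
    rw [this, Matrix.zero_mulVec]

theorem comm_of_mem_adjoin (X a : Matrix (Fin n) (Fin n) F) (ha : a ∈ Algebra.adjoin F {X}) :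
    a * X = X * a := by
  have h1 : Algebra.adjoin F {X} ≤ Subalgebra.centralizer F {X} := by
    apply Algebra.adjoin_le
    intro y hy
    rw [Set.mem_singleton_iff] at hy
    subst hy
    rw [SetLike.mem_coe, Subalgebra.mem_centralizer_iff]
    intro z hz
    rw [Set.mem_singleton_iff] at hz
    rw [hz]
  have h2 := (Subalgebra.mem_centralizer_iff F).mp (h1 ha) X rfl
  exact h2.symm

theorem adjoin_mulVec_surj (X : Matrix (Fin n) (Fin n) F)
    (hirr : ∀ W : Submodule F (Fin n → F), (∀ w ∈ W, X *ᵥ w ∈ W) → W = ⊥ ∨ W = ⊤)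
    (v : Fin n → F) (hv : v ≠ 0) (u : Fin n → F) :
    ∃ a ∈ Algebra.adjoin F {X}, a *ᵥ v = u := by
  let ev : Matrix (Fin n) (Fin n) F →ₗ[F] (Fin n → F) :=
    { toFun := fun a => a *ᵥ v
      map_add' := fun a b => Matrix.add_mulVec a b v
      map_smul' := fun c a => Matrix.smul_mulVec c a v }
  let W : Submodule F (Fin n → F) :=
    Submodule.map ev (Subalgebra.toSubmodule (Algebra.adjoin F {X}))
  have hW : ∀ w ∈ W, X *ᵥ w ∈ W := by
    rintro w ⟨a, ha, rfl⟩
    refine ⟨X * a, ?_, ?_⟩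
    · exact (Algebra.adjoin F {X}).mul_mem (Algebra.subset_adjoin rfl) ha
    · show (X * a) *ᵥ v = X *ᵥ (a *ᵥ v)
      rw [Matrix.mulVec_mulVec]
  have hvW : v ∈ W := ⟨1, (Algebra.adjoin F {X}).one_mem, Matrix.one_mulVec v⟩
  rcases hirr W hW with h | h
  · rw [h] at hvW
    exact absurd ((Submodule.mem_bot F).mp hvW) hv
  · have : u ∈ W := h ▸ Submodule.mem_top
    obtain ⟨a, ha, hau⟩ := this
    exact ⟨a, ha, hau⟩

theorem mem_adjoin_of_comm (X : Matrix (Fin n) (Fin n) F) (hn : 1 ≤ n)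
    (hirr : ∀ W : Submodule F (Fin n → F), (∀ w ∈ W, X *ᵥ w ∈ W) → W = ⊥ ∨ W = ⊤)
    (d : Matrix (Fin n) (Fin n) F) (hd : d * X = X * d) : d ∈ Algebra.adjoin F {X} := by
  have hv : (Pi.single (⟨0, hn⟩ : Fin n) (1 : F) : Fin n → F) ≠ 0 := by
    intro h
    have := congrFun h ⟨0, hn⟩
    simp at this
  obtain ⟨a, ha, hau⟩ := adjoin_mulVec_surj X hirr _ hv (d *ᵥ Pi.single (⟨0, hn⟩ : Fin n) (1 : F))
  have hac := comm_of_mem_adjoin X a ha
  by_contra hcon
  have hne : d - a ≠ 0 := by
    intro h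
    rw [sub_eq_zero] at h
    exact hcon (h ▸ ha)
  exact hv (ker_eq_bot_of_comm X hirr (d - a) (by rw [sub_mul, mul_sub, hd, hac]) hne _
    (by rw [Matrix.sub_mulVec, hau, sub_self]))

theorem card_adjoin (X : Matrix (Fin n) (Fin n) F) (hn : 1 ≤ n)
    (hirr : ∀ W : Submodule F (Fin n → F), (∀ w ∈ W, X *ᵥ w ∈ W) → W = ⊥ ∨ W = ⊤) :
    Nat.card (Algebra.adjoin F {X}) = Fintype.card F ^ n := by
  have hv : (Pi.single (⟨0, hn⟩ : Fin n) (1 : F) : Fin n → F) ≠ 0 := by
    intro h
    have := congrFun h ⟨0, hn⟩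
    simp at this
  have h1 : Nat.card (Algebra.adjoin F {X}) = Nat.card (Fin n → F) := by
    apply Nat.card_congr
    refine Equiv.ofBijective (fun a => a.1 *ᵥ Pi.single (⟨0, hn⟩ : Fin n) (1 : F)) ⟨?_, ?_⟩
    · intro a b hab
      by_contra hne
      have hne' : a.1 - b.1 ≠ 0 := by
        intro h
        exact hne (Subtype.ext (sub_eq_zero.mp h))
      have hc : (a.1 - b.1) * X = X * (a.1 - b.1) := by
        rw [sub_mul, mul_sub, comm_of_mem_adjoin X a.1 a.2, comm_of_mem_adjoin X b.1 b.2]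
      exact hv (ker_eq_bot_of_comm X hirr _ hc hne' _
        (by rw [Matrix.sub_mulVec]; exact sub_eq_zero.mpr hab))
    · intro u
      obtain ⟨a, ha, hau⟩ := adjoin_mulVec_surj X hirr _ hv u
      exact ⟨⟨a, ha⟩, hau⟩
  rw [h1, Nat.card_eq_fintype_card, Fintype.card_fun, Fintype.card_fin]

open scoped IsMulCommutative in
theorem singer_centralizer (x : GL (Fin n) F) (hn : 1 ≤ n)
    (hirr : ∀ W : Submodule F (Fin n → F),
      (∀ w ∈ W, (x : Matrix (Fin n) (Fin n) F) *ᵥ w ∈ W) → W = ⊥ ∨ W = ⊤) :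
    IsCyclic ↥(Subgroup.centralizer ({x} : Set (GL (Fin n) F))) ∧
      Nat.card ↥(Subgroup.centralizer ({x} : Set (GL (Fin n) F))) = Fintype.card F ^ n - 1 := by
  classical
  set X : Matrix (Fin n) (Fin n) F := (x : Matrix (Fin n) (Fin n) F) with hX
  haveI : IsMulCommutative (Algebra.adjoin F {X}) := Algebra.isMulCommutative_adjoin F (by
    intro a ha b hb
    rw [Set.mem_singleton_iff] at ha hb
    rw [ha, hb])
  have hunit : ∀ d : Matrix (Fin n) (Fin n) F, d * X = X * d → d ≠ 0 → IsUnit d := by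
    intro d hd hd0
    rw [← Matrix.mulVec_injective_iff_isUnit]
    intro u u' huu
    have := ker_eq_bot_of_comm X hirr d hd hd0 (u - u')
      (by rw [Matrix.mulVec_sub]; exact sub_eq_zero.mpr huu)
    exact sub_eq_zero.mp this
  haveI : Nonempty (Fin n) := ⟨⟨0, hn⟩⟩
  haveI : IsDomain (Algebra.adjoin F {X}) := by
    haveI : NoZeroDivisors (Algebra.adjoin F {X}) := by
      constructor
      intro a b hab
      by_contra hcon
      push Not at hcon
      have ha : a.1 ≠ 0 := fun h => hcon.1 (Subtype.ext h)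
      have hb : b.1 ≠ 0 := fun h => hcon.2 (Subtype.ext h)
      have hau := hunit a.1 (comm_of_mem_adjoin X a.1 a.2) ha
      have hab' : a.1 * b.1 = 0 := congrArg Subtype.val hab
      exact hb ((hau.mul_right_eq_zero).mp hab')
    exact NoZeroDivisors.to_isDomain _
  have hmem : ∀ g : Subgroup.centralizer ({x} : Set (GL (Fin n) F)),
      ((g : GL (Fin n) F) : Matrix (Fin n) (Fin n) F) ∈ Algebra.adjoin F {X} := by
    intro g
    apply mem_adjoin_of_comm X hn hirr
    have := Subgroup.mem_centralizer_singleton_iff.mp g.2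
    have h2 := congrArg (fun y : GL (Fin n) F => (y : Matrix (Fin n) (Fin n) F)) this
    simpa using h2
  let f : Subgroup.centralizer ({x} : Set (GL (Fin n) F)) →* Algebra.adjoin F {X} :=
    { toFun := fun g => ⟨_, hmem g⟩
      map_one' := rfl
      map_mul' := fun a b => rfl }
  have hf : Function.Injective f := by
    intro a b hab
    apply Subtype.ext
    apply Units.ext
    exact congrArg Subtype.val hab
  refine ⟨isCyclic_of_injective_ringHom f hf, ?_⟩
  rw [← card_adjoin X hn hirr]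
  have h1 : Nat.card (Subgroup.centralizer ({x} : Set (GL (Fin n) F))) =
      Nat.card {a : Algebra.adjoin F {X} // ¬ (a = 0)} := by
    apply Nat.card_congr
    refine Equiv.ofBijective (fun g => ⟨f g, ?_⟩) ⟨?_, ?_⟩
    · intro h
      have h2 : ((g : GL (Fin n) F) : Matrix (Fin n) (Fin n) F) = 0 := congrArg Subtype.val h
      exact (g : GL (Fin n) F).ne_zero h2
    · intro a b hab
      exact hf (congrArg Subtype.val hab)
    · rintro ⟨a, ha⟩
      have ha' : a.1 ≠ 0 := fun h => ha (Subtype.ext h)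
      have hc := comm_of_mem_adjoin X a.1 a.2
      obtain ⟨u, hu⟩ := hunit a.1 hc ha'
      refine ⟨⟨u, ?_⟩, ?_⟩
      · rw [Subgroup.mem_centralizer_singleton_iff]
        apply Units.ext
        rw [Units.val_mul, Units.val_mul, hu]
        exact hc
      · apply Subtype.ext
        apply Subtype.ext
        exact hu
  rw [h1]
  haveI : Fintype (Algebra.adjoin F {X}) := Fintype.ofFinite _
  rw [Nat.card_eq_fintype_card, Nat.card_eq_fintype_card, Fintype.card_subtype_compl,
    Fintype.card_subtype_eq]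

end

end Cfsg.Agent.Lib.Helper12
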