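import Mathlib
import Cfsg.Agent.Lib.Helper12.SL2Sylow
import Cfsg.Agent.Lib.Helper12.Singer
import Cfsg.Agent.Lib.Helper12.FixField

set_option autoImplicit false

namespace Cfsg.Agent.Lib.Helper12

open Matrix Matrix.SpecialLinearGroup
open scoped MatrixGroups

section basic
variable {F : Type*} [Field F]

/-- `x + y g`. -/
def linComb (g : Matrix (Fin 2) (Fin 2) F) (x y : F) : Matrix (Fin 2) (Fin 2) F := x • 1 + y • g

/-- scalar 2×2 matrices. -/
def IsScal2 (g : Matrix (Fin 2) (Fin 2) F) : Prop := g 0 1 = 0 ∧ g 1 0 = 0 ∧ g 0 0 = g 1 1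

theorem linComb_apply (g : Matrix (Fin 2) (Fin 2) F) (x y : F) (i j : Fin 2) :
    linComb g x y i j = x * (1 : Matrix (Fin 2) (Fin 2) F) i j + y * g i j := by
  simp [linComb]

theorem det_linComb (g : Matrix (Fin 2) (Fin 2) F) (x y : F) :
    (linComb g x y).det = x ^ 2 + g.trace * x * y + g.det * y ^ 2 := by
  rw [Matrix.det_fin_two, Matrix.det_fin_two, Matrix.trace_fin_two]
  simp only [linComb_apply, Matrix.one_apply_eq, Matrix.one_apply_ne (zero_ne_one : (0 : Fin 2) ≠ 1),
    Matrix.one_apply_ne (one_ne_zero : (1 : Fin 2) ≠ 0)]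
  ring

theorem linComb_comm (g : Matrix (Fin 2) (Fin 2) F) (x y : F) :
    linComb g x y * g = g * linComb g x y := by
  simp [linComb, add_mul, mul_add]

theorem exists_linComb_of_comm (g h : Matrix (Fin 2) (Fin 2) F) (hg : ¬ IsScal2 g)
    (hc : h * g = g * h) : ∃ x y, h = linComb g x y := by
  have e00 := congrFun (congrFun hc 0) 0
  have e01 := congrFun (congrFun hc 0) 1
  have e10 := congrFun (congrFun hc 1) 0
  have e11 := congrFun (congrFun hc 1) 1
  simp only [Matrix.mul_apply, Fin.sum_univ_two] at e00 e01 e10 e11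
  by_cases hb : g 0 1 = 0
  · by_cases hcc : g 1 0 = 0
    · have had : g 0 0 - g 1 1 ≠ 0 := by
        intro h0
        exact hg ⟨hb, hcc, sub_eq_zero.mp h0⟩
      rw [hb] at e01
      rw [hcc] at e10
      have h01 : h 0 1 = 0 := by
        have : h 0 1 * (g 0 0 - g 1 1) = 0 := by linear_combination -e01
        exact (mul_eq_zero.mp this).resolve_right had
      have h10 : h 1 0 = 0 := by
        have : h 1 0 * (g 0 0 - g 1 1) = 0 := by linear_combination e10
        exact (mul_eq_zero.mp this).resolve_right had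
      refine ⟨h 0 0 - (h 0 0 - h 1 1) / (g 0 0 - g 1 1) * g 0 0,
        (h 0 0 - h 1 1) / (g 0 0 - g 1 1), ?_⟩
      ext i j
      rw [linComb_apply]
      fin_cases i <;> fin_cases j <;> simp [hb, hcc, h01, h10]
      field_simp
      ring
    · refine ⟨h 0 0 - h 1 0 / g 1 0 * g 0 0, h 1 0 / g 1 0, ?_⟩
      ext i j
      rw [linComb_apply]
      fin_cases i <;> fin_cases j <;> simp
      · field_simp
        linear_combination e00
      · field_simp
      · field_simp
        linear_combination e10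
  · refine ⟨h 0 0 - h 0 1 / g 0 1 * g 0 0, h 0 1 / g 0 1, ?_⟩
    ext i j
    rw [linComb_apply]
    fin_cases i <;> fin_cases j <;> simp
    · field_simp
    · field_simp
      linear_combination -e00
    · field_simp
      linear_combination -e01

theorem linComb_inj (g : Matrix (Fin 2) (Fin 2) F) (hg : ¬ IsScal2 g) {x y x' y' : F}
    (h : linComb g x y = linComb g x' y') : x = x' ∧ y = y' := by
  have e00 := congrFun (congrFun h 0) 0
  have e01 := congrFun (congrFun h 0) 1
  have e10 := congrFun (congrFun h 1) 0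
  have e11 := congrFun (congrFun h 1) 1
  simp only [linComb_apply, Matrix.one_apply_eq, Matrix.one_apply_ne (zero_ne_one : (0 : Fin 2) ≠ 1),
    Matrix.one_apply_ne (one_ne_zero : (1 : Fin 2) ≠ 0), mul_one, mul_zero, zero_add] at e00 e01 e10 e11
  have hy : y = y' := by
    by_contra hne
    have hne' : y - y' ≠ 0 := sub_ne_zero.mpr hne
    apply hg
    refine ⟨?_, ?_, ?_⟩
    · have : (y - y') * g 0 1 = 0 := by linear_combination e01
      exact (mul_eq_zero.mp this).resolve_left hne'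
    · have : (y - y') * g 1 0 = 0 := by linear_combination e10
      exact (mul_eq_zero.mp this).resolve_left hne'
    · have : (y - y') * (g 0 0 - g 1 1) = 0 := by linear_combination e00 - e11
      exact sub_eq_zero.mp ((mul_eq_zero.mp this).resolve_left hne')
  subst hy
  exact ⟨by linear_combination e00, rfl⟩

/-- the centraliser in `SL₂` of a non-scalar element is a conic. -/
theorem card_centralizer_eq_conic (g : SL(2, F)) (hg : ¬ IsScal2 (g : Matrix (Fin 2) (Fin 2) F)) :
    Nat.card (Subgroup.centralizer ({g} : Set SL(2, F))) =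
      Nat.card {p : F × F // p.1 ^ 2 + (g : Matrix (Fin 2) (Fin 2) F).trace * p.1 * p.2 + p.2 ^ 2 = 1} := by
  symm
  apply Nat.card_congr
  have hdet : ∀ p : {p : F × F // p.1 ^ 2 + (g : Matrix (Fin 2) (Fin 2) F).trace * p.1 * p.2 +
      p.2 ^ 2 = 1}, (linComb (g : Matrix (Fin 2) (Fin 2) F) p.1.1 p.1.2).det = 1 := by
    intro p
    rw [det_linComb, g.det_coe, one_mul]
    exact p.2
  refine Equiv.ofBijective (fun p => ⟨(⟨linComb (g : Matrix (Fin 2) (Fin 2) F) p.1.1 p.1.2,
    hdet p⟩ : SL(2, F)), ?_⟩) ⟨?_, ?_⟩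
  · apply Subgroup.mem_centralizer_singleton_iff.mpr
    apply Subtype.ext
    exact linComb_comm _ _ _
  · intro p p' h
    have h1 : linComb (g : Matrix (Fin 2) (Fin 2) F) p.1.1 p.1.2 =
        linComb (g : Matrix (Fin 2) (Fin 2) F) p'.1.1 p'.1.2 :=
      congrArg (fun z : Subgroup.centralizer ({g} : Set SL(2, F)) =>
        ((z : SL(2, F)) : Matrix (Fin 2) (Fin 2) F)) h
    obtain ⟨h2, h3⟩ := linComb_inj _ hg h1
    exact Subtype.ext (Prod.ext h2 h3)
  · rintro ⟨h, hh⟩
    rw [Subgroup.mem_centralizer_singleton_iff] at hh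
    have hc : (h : Matrix (Fin 2) (Fin 2) F) * (g : Matrix (Fin 2) (Fin 2) F) =
        (g : Matrix (Fin 2) (Fin 2) F) * (h : Matrix (Fin 2) (Fin 2) F) :=
      congrArg (fun z : SL(2, F) => (z : Matrix (Fin 2) (Fin 2) F)) hh
    obtain ⟨x, y, hxy⟩ := exists_linComb_of_comm _ _ hg hc
    refine ⟨⟨(x, y), ?_⟩, ?_⟩
    · have := h.det_coe
      rw [hxy, det_linComb, g.det_coe, one_mul] at this
      exact this
    · apply Subtype.ext
      apply Subtype.ext
      exact hxy.symm

theorem det_sub_smul_one (g : SL(2, F)) (a : F) :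
    ((g : Matrix (Fin 2) (Fin 2) F) - a • 1).det =
      a ^ 2 - (g : Matrix (Fin 2) (Fin 2) F).trace * a + 1 := by
  have h1 := sl2_det g
  rw [Matrix.det_fin_two, Matrix.trace_fin_two]
  simp only [Matrix.sub_apply, Matrix.smul_apply, Matrix.one_apply_eq,
    Matrix.one_apply_ne (zero_ne_one : (0 : Fin 2) ≠ 1),
    Matrix.one_apply_ne (one_ne_zero : (1 : Fin 2) ≠ 0), smul_eq_mul, mul_one, mul_zero, sub_zero]
  linear_combination h1

theorem exists_eigen_iff (g : SL(2, F)) (a : F) :
    (∃ v : Fin 2 → F, v ≠ 0 ∧ (g : Matrix (Fin 2) (Fin 2) F) *ᵥ v = a • v) ↔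
      a ^ 2 - (g : Matrix (Fin 2) (Fin 2) F).trace * a + 1 = 0 := by
  rw [← det_sub_smul_one, ← Matrix.exists_mulVec_eq_zero_iff]
  refine exists_congr fun v => and_congr_right fun _ => ?_
  rw [Matrix.sub_mulVec, Matrix.smul_mulVec, Matrix.one_mulVec, sub_eq_zero]

theorem trace_eq_of_root {t a : F} (h : a ^ 2 - t * a + 1 = 0) : a ≠ 0 ∧ t = a + a⁻¹ := by
  have ha : a ≠ 0 := by
    rintro rfl
    simp at h
  refine ⟨ha, ?_⟩
  field_simp
  linear_combination -h

end basic

section count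
variable {F : Type*} [Field F] [Fintype F]

theorem card_conic_split (a : F) (ha : a ≠ 0) (ha2 : a ^ 2 ≠ 1) :
    Nat.card {p : F × F // p.1 ^ 2 + (a + a⁻¹) * p.1 * p.2 + p.2 ^ 2 = 1} = Fintype.card F - 1 := by
  classical
  rw [← Fintype.card_units, ← Nat.card_eq_fintype_card]
  have hd : a - a⁻¹ ≠ 0 := by
    intro h
    apply ha2
    field_simp at h
    linear_combination h
  have hprod : ∀ x y : F, (x + a * y) * (x + a⁻¹ * y) = x ^ 2 + (a + a⁻¹) * x * y + y ^ 2 := by
    intro x y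
    field_simp
    ring
  apply Nat.card_congr
  refine Equiv.ofBijective (fun p => (⟨p.1.1 + a * p.1.2, p.1.1 + a⁻¹ * p.1.2, ?_, ?_⟩ : Fˣ)) ⟨?_, ?_⟩
  · rw [hprod]; exact p.2
  · rw [mul_comm, hprod]; exact p.2
  · intro p p' h
    have h1 : p.1.1 + a * p.1.2 = p'.1.1 + a * p'.1.2 := congrArg Units.val h
    have h2 : p.1.1 + a⁻¹ * p.1.2 = p'.1.1 + a⁻¹ * p'.1.2 := by
      have := congrArg (fun u : Fˣ => ((u⁻¹ : Fˣ) : F)) h
      exact this
    have h3 : (a - a⁻¹) * (p.1.2 - p'.1.2) = 0 := by linear_combination h1 - h2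
    have h4 : p.1.2 = p'.1.2 := sub_eq_zero.mp ((mul_eq_zero.mp h3).resolve_left hd)
    have h5 : p.1.1 = p'.1.1 := by rw [h4] at h1; exact add_right_cancel h1
    exact Subtype.ext (Prod.ext h5 h4)
  · intro u
    have hu : (u : F) ≠ 0 := u.ne_zero
    have e1 : ((u : F) - a * (((u : F) - (u : F)⁻¹) / (a - a⁻¹))) +
        a * (((u : F) - (u : F)⁻¹) / (a - a⁻¹)) = u := by ring
    have e2 : ((u : F) - a * (((u : F) - (u : F)⁻¹) / (a - a⁻¹))) +
        a⁻¹ * (((u : F) - (u : F)⁻¹) / (a - a⁻¹)) = (u : F)⁻¹ := by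
      field_simp
      ring
    refine ⟨⟨((u : F) - a * (((u : F) - (u : F)⁻¹) / (a - a⁻¹)),
      ((u : F) - (u : F)⁻¹) / (a - a⁻¹)), ?_⟩, ?_⟩
    · show _ ^ 2 + _ * _ * _ + _ ^ 2 = (1 : F)
      rw [← hprod, e1, e2, mul_inv_cancel₀ hu]
    · apply Units.ext
      exact e1

theorem card_conic_charTwo [CharP F 2] :
    Nat.card {p : F × F // p.1 ^ 2 + (0 : F) * p.1 * p.2 + p.2 ^ 2 = 1} = Fintype.card F := by
  rw [← Nat.card_eq_fintype_card]
  have h2 : (2 : F) = 0 := CharTwo.two_eq_zero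
  apply Nat.card_congr
  refine ⟨fun p => p.1.2, fun y => ⟨(1 + y, y), ?_⟩, ?_, ?_⟩
  · show (1 + y) ^ 2 + 0 * (1 + y) * y + y ^ 2 = 1
    linear_combination (y + y ^ 2) * h2
  · rintro ⟨⟨x, y⟩, hp⟩
    apply Subtype.ext
    simp only at hp ⊢
    have h3 : (x + y + 1) ^ 2 = 0 := by linear_combination hp + (x * y + x + y + 1) * h2
    have h4 : x + y + 1 = 0 := pow_eq_zero_iff (by norm_num) |>.mp h3
    have : x = 1 + y := by linear_combination h4 - (y + 1) * h2
    rw [this]
  · intro y; rfl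

theorem exists_conic_rep (t c : F) (ht : (2 : F) ≠ 0 → t ^ 2 ≠ 4) :
    ∃ x y : F, x ^ 2 + t * x * y + y ^ 2 = c := by
  classical
  by_cases h : Fintype.card F % 2 = 1
  · have h2 : (2 : F) ≠ 0 := by
      apply Ring.two_ne_zero
      intro h3
      have := FiniteField.even_card_iff_char_two.mp h3
      omega
    have hD : 1 - t ^ 2 / 4 ≠ 0 := by
      intro h0
      apply ht h2
      have h4 : (4 : F) ≠ 0 := by
        have : (4 : F) = 2 * 2 := by norm_num
        rw [this]; exact mul_ne_zero h2 h2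
      field_simp at h0
      linear_combination -h0
    obtain ⟨a, b, hab⟩ : ∃ a b, (Polynomial.X ^ 2 : Polynomial F).eval a +
        (Polynomial.C (1 - t ^ 2 / 4) * Polynomial.X ^ 2 + Polynomial.C 0 * Polynomial.X +
          Polynomial.C (-c) : Polynomial F).eval b = 0 :=
      FiniteField.exists_root_sum_quadratic (Polynomial.degree_X_pow 2)
        (Polynomial.degree_quadratic hD) h
    refine ⟨a - t * b / 2, b, ?_⟩
    simp at hab
    have h4 : (4 : F) ≠ 0 := by
      have : (4 : F) = 2 * 2 := by norm_num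
      rw [this]; exact mul_ne_zero h2 h2
    have h5 : (a - t * b / 2) ^ 2 + t * (a - t * b / 2) * b + b ^ 2 =
        a ^ 2 + (1 - t ^ 2 / 4) * b ^ 2 := by
      have : (4 : F) = 2 * 2 := by norm_num
      rw [this]
      field_simp
      ring
    rw [h5]
    linear_combination hab
  · have h2 : ringChar F = 2 := FiniteField.even_card_iff_char_two.mpr (by omega)
    obtain ⟨e, he⟩ := FiniteField.isSquare_of_char_two h2 c
    exact ⟨e, 0, by rw [he]; ring⟩

theorem irr_of_no_eigen (g : Matrix (Fin 2) (Fin 2) F)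
    (hno : ∀ (c : F) (v : Fin 2 → F), v ≠ 0 → g *ᵥ v ≠ c • v) :
    ∀ W : Submodule F (Fin 2 → F), (∀ w ∈ W, g *ᵥ w ∈ W) → W = ⊥ ∨ W = ⊤ := by
  intro W hW
  by_cases hb : W = ⊥
  · left; exact hb
  right
  obtain ⟨v, hvW, hv0⟩ := Submodule.exists_mem_ne_zero_of_ne_bot hb
  have hli : LinearIndependent F ![v, g *ᵥ v] := by
    rw [LinearIndependent.pair_iff' hv0]
    intro a ha
    exact hno a v hv0 ha.symm
  have hsp := hli.span_eq_top_of_card_eq_finrank (by simp)
  rw [eq_top_iff, ← hsp, Submodule.span_le]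
  rintro _ ⟨i, rfl⟩
  fin_cases i
  · exact hvW
  · exact hW v hvW

theorem trace_sq_ne_four_of_no_eigen (g : SL(2, F))
    (hno : ∀ (c : F) (v : Fin 2 → F), v ≠ 0 → (g : Matrix (Fin 2) (Fin 2) F) *ᵥ v ≠ c • v) :
    (2 : F) ≠ 0 → (g : Matrix (Fin 2) (Fin 2) F).trace ^ 2 ≠ 4 := by
  intro h2 h4
  have h5 : ((g : Matrix (Fin 2) (Fin 2) F).trace / 2) ^ 2 -
      (g : Matrix (Fin 2) (Fin 2) F).trace * ((g : Matrix (Fin 2) (Fin 2) F).trace / 2) + 1 = 0 := by
    field_simp
    linear_combination -h4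
  obtain ⟨v, hv, hgv⟩ := (exists_eigen_iff g _).mpr h5
  exact hno _ v hv hgv

theorem not_isScal2_of_no_eigen (g : Matrix (Fin 2) (Fin 2) F)
    (hno : ∀ (c : F) (v : Fin 2 → F), v ≠ 0 → g *ᵥ v ≠ c • v) : ¬ IsScal2 g := by
  rintro ⟨h1, h2, h3⟩
  apply hno (g 0 0) ![1, 0] (by intro h; simpa using congrFun h 0)
  ext i
  fin_cases i <;> simp [Matrix.mulVec, dotProduct, Fin.sum_univ_two, h2]

/-- the centraliser of an irreducible element of `SL₂(q)` is cyclic of order `q + 1`. -/
theorem centralizer_SL2_irred (g : SL(2, F))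
    (hno : ∀ (c : F) (v : Fin 2 → F), v ≠ 0 → (g : Matrix (Fin 2) (Fin 2) F) *ᵥ v ≠ c • v) :
    IsCyclic (Subgroup.centralizer ({g} : Set SL(2, F))) ∧
      Nat.card (Subgroup.centralizer ({g} : Set SL(2, F))) = Fintype.card F + 1 := by
  classical
  set x : GL (Fin 2) F := Matrix.SpecialLinearGroup.toGL g with hx
  have hxv : (x : Matrix (Fin 2) (Fin 2) F) = (g : Matrix (Fin 2) (Fin 2) F) := rfl
  obtain ⟨hcyc, hcard⟩ := singer_centralizer x (by norm_num) (irr_of_no_eigen _ hno)
  let ι : Subgroup.centralizer ({g} : Set SL(2, F)) →* Subgroup.centralizer ({x} : Set (GL (Fin 2) F)) :=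
    { toFun := fun h => ⟨Matrix.SpecialLinearGroup.toGL h.1, by
        apply Subgroup.mem_centralizer_singleton_iff.mpr
        rw [hx, ← map_mul, ← map_mul, Subgroup.mem_centralizer_singleton_iff.mp h.2]⟩
      map_one' := by
        apply Subtype.ext
        simp
      map_mul' := fun a b => by
        apply Subtype.ext
        simp }
  have hι : Function.Injective ι := by
    intro a b hab
    apply Subtype.ext
    apply Subtype.ext
    exact congrArg (fun z : Subgroup.centralizer ({x} : Set (GL (Fin 2) F)) =>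
      ((z : GL (Fin 2) F) : Matrix (Fin 2) (Fin 2) F)) hab
  refine ⟨isCyclic_of_injective ι hι, ?_⟩
  let δ : Subgroup.centralizer ({x} : Set (GL (Fin 2) F)) →* Fˣ :=
    (Matrix.GeneralLinearGroup.det).comp (Subgroup.subtype _)
  have hδ : Function.Surjective δ := by
    intro c
    obtain ⟨a, b, hab⟩ := exists_conic_rep (g : Matrix (Fin 2) (Fin 2) F).trace (c : F)
      (trace_sq_ne_four_of_no_eigen g hno)
    have hdet : (linComb (g : Matrix (Fin 2) (Fin 2) F) a b).det = c := by
      rw [det_linComb, g.det_coe, one_mul]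
      exact hab
    have hu : IsUnit (linComb (g : Matrix (Fin 2) (Fin 2) F) a b).det := by
      rw [hdet]; exact c.isUnit
    refine ⟨⟨Matrix.GeneralLinearGroup.mk'' _ hu, ?_⟩, ?_⟩
    · apply Subgroup.mem_centralizer_singleton_iff.mpr
      apply Units.ext
      exact linComb_comm _ _ _
    · apply Units.ext
      exact hdet
  have hker : Nat.card δ.ker = Nat.card (Subgroup.centralizer ({g} : Set SL(2, F))) := by
    symm
    apply Nat.card_congr
    refine Equiv.ofBijective (fun h => ⟨ι h, ?_⟩) ⟨?_, ?_⟩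
    · rw [MonoidHom.mem_ker]
      apply Units.ext
      exact h.1.det_coe
    · intro a b hab
      exact hι (congrArg Subtype.val hab)
    · rintro ⟨⟨h, hh⟩, hk⟩
      rw [MonoidHom.mem_ker] at hk
      have hd : (h : Matrix (Fin 2) (Fin 2) F).det = 1 := congrArg Units.val hk
      refine ⟨⟨(⟨(h : Matrix (Fin 2) (Fin 2) F), hd⟩ : SL(2, F)), ?_⟩, ?_⟩
      · apply Subgroup.mem_centralizer_singleton_iff.mpr
        apply Subtype.ext
        exact congrArg (fun z : GL (Fin 2) F => (z : Matrix (Fin 2) (Fin 2) F))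
          (Subgroup.mem_centralizer_singleton_iff.mp hh)
      · apply Subtype.ext
        apply Subtype.ext
        apply Units.ext
        rfl
  have h1 := card_eq_range_mul_ker δ
  rw [MonoidHom.range_eq_top.mpr hδ, Subgroup.card_top, hker, hcard, Nat.card_units,
    Nat.card_eq_fintype_card] at h1
  have hq : 2 ≤ Fintype.card F := Fintype.one_lt_card
  obtain ⟨k, hk⟩ : ∃ k, Fintype.card F = k + 2 := ⟨Fintype.card F - 2, by omega⟩
  rw [hk] at h1 ⊢
  have h2 : (k + 2) ^ 2 - 1 = (k + 2 - 1) * (k + 2 + 1) := by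
    have : (k + 2) ^ 2 = (k + 1) * (k + 3) + 1 := by ring
    rw [this]
    rfl
  rw [h2] at h1
  exact (Nat.eq_of_mul_eq_mul_left (by omega) h1).symm

end count

end Cfsg.Agent.Lib.Helper12
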