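import Mathlib
import Cfsg.Agent.Lib.Helper12.SL2Conic
import Cfsg.Agent.Lib.Helper12.GLCard

set_option autoImplicit false

namespace Cfsg.Agent.Lib.Helper12

open Matrix Matrix.SpecialLinearGroup
open scoped MatrixGroups

section general
variable {G : Type*} [Group G]

theorem orderOf_dvd_card_centralizer (g : G) :
    orderOf g ∣ Nat.card (Subgroup.centralizer ({g} : Set G)) := by
  have hg : g ∈ Subgroup.centralizer ({g} : Set G) :=
    Subgroup.mem_centralizer_singleton_iff.mpr rfl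
  have := orderOf_dvd_natCard (⟨g, hg⟩ : Subgroup.centralizer ({g} : Set G))
  rwa [Subgroup.orderOf_mk] at this

theorem card_map_mk_mul (Z T : Subgroup G) [Z.Normal] (hZT : Z ≤ T) :
    Nat.card (T.map (QuotientGroup.mk' Z)) * Nat.card Z = Nat.card T := by
  have h := card_eq_range_mul_ker ((QuotientGroup.mk' Z).domRestrict T)
  rw [MonoidHom.domRestrict_range, MonoidHom.ker_domRestrict, QuotientGroup.ker_mk',
    Nat.card_congr (Subgroup.subgroupOfEquivOfLe hZT).toEquiv] at h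
  exact h.symm

theorem orderOf_mk_dvd (Z T : Subgroup G) [Z.Normal] [Finite Z] (hZT : Z ≤ T) (g : G) (hg : g ∈ T) :
    orderOf (QuotientGroup.mk' Z g) ∣ Nat.card T / Nat.card Z := by
  have h := card_map_mk_mul Z T hZT
  have h1 : Nat.card T / Nat.card Z = Nat.card (T.map (QuotientGroup.mk' Z)) := by
    rw [← h, Nat.mul_div_cancel _ Nat.card_pos]
  rw [h1]
  have hm : QuotientGroup.mk' Z g ∈ T.map (QuotientGroup.mk' Z) := Subgroup.mem_map_of_mem _ hg
  have := orderOf_dvd_natCard (⟨_, hm⟩ : T.map (QuotientGroup.mk' Z))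
  rwa [Subgroup.orderOf_mk] at this

theorem orderOf_mk_eq (Z : Subgroup G) [Z.Normal] [Finite Z] (c : G)
    (hZ : Z ≤ Subgroup.zpowers c) :
    orderOf (QuotientGroup.mk' Z c) = orderOf c / Nat.card Z := by
  have h := card_map_mk_mul Z (Subgroup.zpowers c) hZ
  rw [MonoidHom.map_zpowers, Nat.card_zpowers, Nat.card_zpowers] at h
  rw [← h, Nat.mul_div_cancel _ Nat.card_pos]

theorem exists_orderOf_eq_of_dvd (c : G) (hc : 0 < orderOf c) (m : ℕ) (hm : m ∣ orderOf c) :
    ∃ k : ℕ, orderOf (c ^ k) = m := by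
  obtain ⟨k, hk⟩ := hm
  refine ⟨k, ?_⟩
  have hk0 : k ≠ 0 := by
    rintro rfl
    rw [mul_zero] at hk
    omega
  rw [orderOf_pow_of_dvd hk0 ⟨m, by rw [hk, mul_comm]⟩, hk]
  exact Nat.mul_div_cancel _ (Nat.pos_of_ne_zero hk0)

end general

section field
variable {F : Type*} [Field F]

theorem sl2_cayley (g : SL(2, F)) :
    (g : Matrix (Fin 2) (Fin 2) F) * (g : Matrix (Fin 2) (Fin 2) F) =
      (g : Matrix (Fin 2) (Fin 2) F).trace • (g : Matrix (Fin 2) (Fin 2) F) - 1 := by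
  have hd := sl2_det g
  ext i j
  rw [Matrix.trace_fin_two]
  fin_cases i <;> fin_cases j <;>
    simp [Matrix.mul_apply, Fin.sum_univ_two] <;> first | linear_combination -hd | ring

theorem pow_char_eq_scalar (p : ℕ) [Fact p.Prime] [CharP F p] (g : SL(2, F)) (a : F)
    (ha : a ^ 2 = 1) (ht : (g : Matrix (Fin 2) (Fin 2) F).trace = 2 * a) :
    (g : Matrix (Fin 2) (Fin 2) F) ^ p = (a ^ p) • 1 := by
  set M : Matrix (Fin 2) (Fin 2) F := (g : Matrix (Fin 2) (Fin 2) F) with hM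
  have hc := sl2_cayley g
  rw [← hM, ht] at hc
  set N : Matrix (Fin 2) (Fin 2) F := M - a • 1 with hN
  have hN2 : N * N = 0 := by
    rw [hN, sub_mul, mul_sub, mul_sub, hc]
    simp only [Matrix.smul_mul, Matrix.mul_smul, Matrix.one_mul, Matrix.mul_one, smul_smul]
    rw [← pow_two, ha, two_mul, add_smul, one_smul]
    abel
  have hMN : M = a • 1 + N := by rw [hN]; abel
  have hcomm : Commute (a • (1 : Matrix (Fin 2) (Fin 2) F)) N := by
    show _ * _ = _ * _
    simp
  have hp : 2 ≤ p := (Fact.out : p.Prime).two_le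
  have hNp : N ^ p = 0 := by
    obtain ⟨k, rfl⟩ : ∃ k, p = 2 + k := ⟨p - 2, by omega⟩
    rw [pow_add, pow_two, hN2, zero_mul]
  rw [hMN, add_pow_char_of_commute _ hcomm, hNp, add_zero, smul_pow, one_pow]

theorem no_eigen_of_no_root (g : SL(2, F))
    (ha : ∀ a : F, a ^ 2 - (g : Matrix (Fin 2) (Fin 2) F).trace * a + 1 ≠ 0) :
    ∀ (c : F) (v : Fin 2 → F), v ≠ 0 → (g : Matrix (Fin 2) (Fin 2) F) *ᵥ v ≠ c • v := by
  intro c v hv h
  exact ha c ((exists_eigen_iff g c).mp ⟨v, hv, h⟩)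

theorem not_isScal2_of_root (g : SL(2, F)) (a : F)
    (ha : a ^ 2 - (g : Matrix (Fin 2) (Fin 2) F).trace * a + 1 = 0) (ha2 : a ^ 2 ≠ 1) :
    ¬ IsScal2 (g : Matrix (Fin 2) (Fin 2) F) := by
  rintro ⟨h1, h2, h3⟩
  have hd := sl2_det g
  rw [Matrix.trace_fin_two] at ha
  change g 0 1 = 0 at h1
  change g 1 0 = 0 at h2
  change g 0 0 = g 1 1 at h3
  change a ^ 2 - (g 0 0 + g 1 1) * a + 1 = 0 at ha
  rw [h1, h2, ← h3] at hd
  rw [← h3] at ha
  have h4 : (a - g 0 0) ^ 2 = 0 := by linear_combination ha + hd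
  have h5 : a = g 0 0 := sub_eq_zero.mp (pow_eq_zero_iff (by norm_num) |>.mp h4)
  apply ha2
  rw [h5]
  linear_combination hd

/-- the split torus. -/
def dHom : Fˣ →* SL(2, F) where
  toFun u := ⟨!![(u : F), 0; 0, ((u⁻¹ : Fˣ) : F)], by
    rw [Matrix.det_fin_two_of]; simp⟩
  map_one' := by
    apply Subtype.ext
    ext i j
    fin_cases i <;> fin_cases j <;> simp
  map_mul' u v := by
    apply Subtype.ext
    show (!![((u * v : Fˣ) : F), 0; 0, (((u * v)⁻¹ : Fˣ) : F)] : Matrix (Fin 2) (Fin 2) F) =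
      !![(u : F), 0; 0, ((u⁻¹ : Fˣ) : F)] * !![(v : F), 0; 0, ((v⁻¹ : Fˣ) : F)]
    ext i j
    fin_cases i <;> fin_cases j <;> simp [Matrix.mul_apply, Fin.sum_univ_two, mul_comm]

theorem dHom_coe (u : Fˣ) :
    ((dHom u : SL(2, F)) : Matrix (Fin 2) (Fin 2) F) = !![(u : F), 0; 0, ((u⁻¹ : Fˣ) : F)] := rfl

theorem dHom_injective : Function.Injective (dHom : Fˣ →* SL(2, F)) := by
  intro u v h
  have := congrArg (fun g : SL(2, F) => (g : Matrix (Fin 2) (Fin 2) F) 0 0) h
  simp only [dHom_coe] at this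
  apply Units.ext
  simpa using this

theorem center_le_range_dHom : Subgroup.center SL(2, F) ≤ (dHom : Fˣ →* SL(2, F)).range := by
  intro A hA
  obtain ⟨r, hr, hrA⟩ := Matrix.SpecialLinearGroup.mem_center_iff.mp hA
  rw [Fintype.card_fin] at hr
  refine ⟨⟨r, r, by rw [← pow_two, hr], by rw [← pow_two, hr]⟩, ?_⟩
  apply Subtype.ext
  rw [dHom_coe, ← hrA]
  ext i j
  fin_cases i <;> fin_cases j <;> simp

end field

section finite
variable {F : Type*} [Field F] [Fintype F]

theorem card_centralizer_split (g : SL(2, F)) (a : F)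
    (ha : a ^ 2 - (g : Matrix (Fin 2) (Fin 2) F).trace * a + 1 = 0) (ha2 : a ^ 2 ≠ 1) :
    Nat.card (Subgroup.centralizer ({g} : Set SL(2, F))) = Fintype.card F - 1 := by
  obtain ⟨ha0, hta⟩ := trace_eq_of_root ha
  rw [card_centralizer_eq_conic g (not_isScal2_of_root g a ha ha2), hta, card_conic_split a ha0 ha2]

theorem exists_no_root : ∃ g : SL(2, F),
    ∀ a : F, a ^ 2 - (g : Matrix (Fin 2) (Fin 2) F).trace * a + 1 ≠ 0 := by
  classical
  have hns : ¬ Function.Surjective (fun a : Fˣ => (a : F) + (a : F)⁻¹) := by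
    intro hs
    have := Fintype.card_le_of_surjective _ hs
    rw [Fintype.card_units] at this
    have : 0 < Fintype.card F := Fintype.card_pos
    omega
  rw [Function.Surjective] at hns
  push Not at hns
  obtain ⟨t, ht⟩ := hns
  have hdet : (!![0, -1; 1, t] : Matrix (Fin 2) (Fin 2) F).det = 1 := by
    rw [Matrix.det_fin_two_of]
    ring
  refine ⟨(⟨!![0, -1; 1, t], hdet⟩ : SL(2, F)), ?_⟩
  intro a ha
  have htr : (!![0, -1; 1, t] : Matrix (Fin 2) (Fin 2) F).trace = t := by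
    rw [Matrix.trace_fin_two_of, zero_add]
  change a ^ 2 - (!![0, -1; 1, t] : Matrix (Fin 2) (Fin 2) F).trace * a + 1 = 0 at ha
  rw [htr] at ha
  obtain ⟨h0, h1⟩ := trace_eq_of_root ha
  exact ht (Units.mk0 a h0) h1.symm

theorem card_center_SL2 :
    Nat.card (Subgroup.center SL(2, F)) = Nat.gcd 2 (Fintype.card F - 1) := by
  rw [card_center_SL 2 (by norm_num), card_units_eq]

/-- an element of order `q - 1` whose powers contain the centre. -/
theorem exists_split_gen : ∃ c : SL(2, F), orderOf c = Fintype.card F - 1 ∧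
    Subgroup.center SL(2, F) ≤ Subgroup.zpowers c := by
  classical
  obtain ⟨ζ, hζ⟩ := IsCyclic.exists_generator (α := Fˣ)
  refine ⟨dHom ζ, ?_, ?_⟩
  · rw [orderOf_injective dHom dHom_injective, orderOf_eq_card_of_forall_mem_zpowers hζ,
      card_units_eq]
  · intro z hz
    obtain ⟨u, rfl⟩ := center_le_range_dHom hz
    obtain ⟨k, rfl⟩ := hζ u
    exact ⟨k, (map_zpow dHom ζ k).symm⟩

/-- an element of order `q + 1` whose powers contain the centre. -/
theorem exists_nonsplit_gen : ∃ c : SL(2, F), orderOf c = Fintype.card F + 1 ∧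
    Subgroup.center SL(2, F) ≤ Subgroup.zpowers c := by
  classical
  obtain ⟨g, hg⟩ := exists_no_root (F := F)
  obtain ⟨hcyc, hcard⟩ := centralizer_SL2_irred g (no_eigen_of_no_root g hg)
  obtain ⟨c, hc⟩ := IsCyclic.exists_generator (α := Subgroup.centralizer ({g} : Set SL(2, F)))
  refine ⟨c.1, ?_, ?_⟩
  · rw [Subgroup.orderOf_coe, orderOf_eq_card_of_forall_mem_zpowers hc, hcard]
  · intro z hz
    have hzc : z ∈ Subgroup.centralizer ({g} : Set SL(2, F)) := Subgroup.center_le_centralizer _ hz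
    obtain ⟨k, hk⟩ := hc ⟨z, hzc⟩
    refine ⟨k, ?_⟩
    have := congrArg Subtype.val hk
    simpa using this

end finite

end Cfsg.Agent.Lib.Helper12
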