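import Mathlib
import Cfsg.Agent.Lib.Helper12.SL2Tori
import Cfsg.Agent.Lib.Helper27.PSL2Invol

set_option autoImplicit false

namespace Cfsg.Agent.Lib.Helper12

open Matrix Matrix.SpecialLinearGroup
open scoped MatrixGroups

section field
variable {F : Type*} [Field F]

/-- preimage in `SL₂` of the centraliser in `PSL₂`. -/
def ctil (g : SL(2, F)) : Subgroup SL(2, F) :=
  (Subgroup.centralizer ({QuotientGroup.mk' (Subgroup.center SL(2, F)) g} :
    Set (SL(2, F) ⧸ Subgroup.center SL(2, F)))).comap (QuotientGroup.mk' _)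

theorem mem_ctil (g h : SL(2, F)) : h ∈ ctil g ↔ h * g = g * h ∨ h * g = -(g * h) := by
  unfold ctil
  rw [Subgroup.mem_comap, Subgroup.mem_centralizer_singleton_iff]
  exact Cfsg.Agent.Lib.Helper27.PSL2.comm_mk_iff h g

theorem index_ctil (g : SL(2, F)) :
    (ctil g).index = (Subgroup.centralizer ({QuotientGroup.mk' (Subgroup.center SL(2, F)) g} :
    Set (SL(2, F) ⧸ Subgroup.center SL(2, F)))).index :=
  Subgroup.index_comap_of_surjective _ (QuotientGroup.mk'_surjective _)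

theorem centralizer_le_ctil (g : SL(2, F)) : Subgroup.centralizer ({g} : Set SL(2, F)) ≤ ctil g := by
  intro h hh
  exact (mem_ctil g h).mpr (Or.inl (Subgroup.mem_centralizer_singleton_iff.mp hh))

theorem trace_zero_of_anticomm (h2 : (2 : F) ≠ 0) (g h : SL(2, F)) (hh : h * g = -(g * h)) :
    (g : Matrix (Fin 2) (Fin 2) F).trace = 0 := by
  have e00 := congrArg (fun z : SL(2, F) => z 0 0) hh
  have e01 := congrArg (fun z : SL(2, F) => z 0 1) hh
  have e10 := congrArg (fun z : SL(2, F) => z 1 0) hh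
  have e11 := congrArg (fun z : SL(2, F) => z 1 1) hh
  simp only [Matrix.SpecialLinearGroup.coe_neg, Matrix.neg_apply, sl2_mul_00, sl2_mul_01,
    sl2_mul_10, sl2_mul_11] at e00 e01 e10 e11
  have hd := sl2_det h
  rw [Matrix.trace_fin_two]
  have : 2 * (g 0 0 + g 1 1) = 0 := by
    linear_combination (h 1 1) * e00 - (h 0 1) * e10 - (h 1 0) * e01 + (h 0 0) * e11 -
      2 * (g 0 0 + g 1 1) * hd
  exact (mul_eq_zero.mp this).resolve_left h2

theorem ctil_eq (h2 : (2 : F) ≠ 0) (g : SL(2, F)) (ht : (g : Matrix (Fin 2) (Fin 2) F).trace ≠ 0) :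
    ctil g = Subgroup.centralizer ({g} : Set SL(2, F)) := by
  apply le_antisymm _ (centralizer_le_ctil g)
  intro h hh
  rcases (mem_ctil g h).mp hh with h1 | h1
  · exact Subgroup.mem_centralizer_singleton_iff.mpr h1
  · exact absurd (trace_zero_of_anticomm h2 g h h1) ht

theorem ctil_eq_top (g : SL(2, F)) (hg : IsScal2 (g : Matrix (Fin 2) (Fin 2) F)) : ctil g = ⊤ := by
  rw [eq_top_iff]
  intro h _
  obtain ⟨h1, h2, h3⟩ := hg
  change g 0 1 = 0 at h1
  change g 1 0 = 0 at h2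
  change g 0 0 = g 1 1 at h3
  apply (mem_ctil g h).mpr
  left
  apply sl2_ext <;> simp only [sl2_mul_00, sl2_mul_01, sl2_mul_10, sl2_mul_11, h1, h2, h3] <;> ring

end field

section finite
variable {F : Type*} [Field F] [Fintype F]

theorem relIndex_ctil (hodd : Fintype.card F % 2 = 1) (g : SL(2, F))
    (ht : (g : Matrix (Fin 2) (Fin 2) F).trace = 0) :
    (Subgroup.centralizer ({g} : Set SL(2, F))).relIndex (ctil g) = 2 := by
  have h2 : (2 : F) ≠ 0 := Cfsg.Agent.Lib.Helper14.SL2.two_ne_zero_of_odd hodd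
  rw [Subgroup.relIndex_eq_two_iff]
  have ht1 : Cfsg.Agent.Lib.Helper27.PSL2.tr g = 0 := by
    rw [Matrix.trace_fin_two] at ht
    exact ht
  have ht2 : Cfsg.Agent.Lib.Helper27.PSL2.tr (-g) = 0 := by
    rw [Matrix.trace_fin_two] at ht
    unfold Cfsg.Agent.Lib.Helper27.PSL2.tr
    rw [Matrix.SpecialLinearGroup.coe_neg, Matrix.neg_apply, Matrix.neg_apply]
    linear_combination -ht
  obtain ⟨c, hc⟩ := isConj_iff.1 (Cfsg.Agent.Lib.Helper27.PSL2.isConj_of_tr_zero hodd g (-g) ht1 ht2)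
  have hc' : c * g = -(g * c) := by
    have : c * g = (-g) * c := by rw [← hc]; group
    rw [this, neg_mul]
  refine ⟨c, (mem_ctil g c).mpr (Or.inr hc'), ?_⟩
  intro b hb
  rcases (mem_ctil g b).mp hb with h | h
  · right
    refine ⟨Subgroup.mem_centralizer_singleton_iff.mpr h, ?_⟩
    intro h3
    rw [Subgroup.mem_centralizer_singleton_iff] at h3
    have h4 : b * c * g = -(g * (b * c)) := by
      rw [mul_assoc, hc', mul_neg, ← mul_assoc, h, mul_assoc]
    rw [h3] at h4
    exact Cfsg.Agent.Lib.Helper27.PSL2.ne_neg h2 _ h4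
  · left
    refine ⟨?_, ?_⟩
    · rw [Subgroup.mem_centralizer_singleton_iff]
      rw [mul_assoc, hc', mul_neg, ← mul_assoc, h, neg_mul, neg_neg, mul_assoc]
    · intro h3
      rw [Subgroup.mem_centralizer_singleton_iff] at h3
      rw [h3] at h
      exact Cfsg.Agent.Lib.Helper27.PSL2.ne_neg h2 _ h

theorem card_sq_eq_one (h2 : (2 : F) ≠ 0) : Nat.card {s : F // s ^ 2 = 1} = 2 := by
  have h1 : {s : F | s ^ 2 = 1} = {1, -1} := by
    ext s
    simp [sq_eq_one_iff]
  have h3 : Nat.card {s : F // s ^ 2 = 1} = ({s : F | s ^ 2 = 1} : Set F).ncard := rfl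
  rw [h3, h1]
  apply Set.ncard_pair
  intro h
  apply h2
  linear_combination h

theorem card_conic_unip (h2 : (2 : F) ≠ 0) (a : F) (ha : a ^ 2 = 1) :
    Nat.card {p : F × F // p.1 ^ 2 + (2 * a) * p.1 * p.2 + p.2 ^ 2 = 1} = 2 * Fintype.card F := by
  have h0 : 2 * Fintype.card F = Nat.card ({s : F // s ^ 2 = 1} × F) := by
    rw [Nat.card_prod, card_sq_eq_one h2, Nat.card_eq_fintype_card]
  rw [h0]
  apply Nat.card_congr
  refine ⟨fun p => (⟨p.1.1 + a * p.1.2, ?_⟩, p.1.2), fun z => ⟨(z.1.1 - a * z.2, z.2), ?_⟩, ?_, ?_⟩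
  · have := p.2
    linear_combination this + p.1.2 ^ 2 * ha
  · have := z.1.2
    show (z.1.1 - a * z.2) ^ 2 + 2 * a * (z.1.1 - a * z.2) * z.2 + z.2 ^ 2 = 1
    linear_combination this - z.2 ^ 2 * ha
  · rintro ⟨⟨x, y⟩, hp⟩
    apply Subtype.ext
    simp
  · rintro ⟨⟨s, hs⟩, y⟩
    simp

theorem card_centralizer_unip (h2 : (2 : F) ≠ 0) (g : SL(2, F))
    (hg : ¬ IsScal2 (g : Matrix (Fin 2) (Fin 2) F)) (a : F) (ha : a ^ 2 = 1)
    (ht : (g : Matrix (Fin 2) (Fin 2) F).trace = 2 * a) :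
    Nat.card (Subgroup.centralizer ({g} : Set SL(2, F))) = 2 * Fintype.card F := by
  rw [card_centralizer_eq_conic g hg, ht, card_conic_unip h2 a ha]

theorem index_of_card_SL2 (H : Subgroup SL(2, F)) (c m : ℕ) (hc : Nat.card H = c) (hc0 : 0 < c)
    (h : c * m = Fintype.card F * (Fintype.card F ^ 2 - 1)) : H.index = m := by
  have h1 := Subgroup.card_mul_index H
  rw [hc, card_SL2, ← h] at h1
  exact Nat.eq_of_mul_eq_mul_left hc0 h1

/-- a generator of a non-split torus. -/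
theorem exists_nonsplit_gen' : ∃ c : SL(2, F), orderOf c = Fintype.card F + 1 ∧
    ∀ a : F, a ^ 2 - (c : Matrix (Fin 2) (Fin 2) F).trace * a + 1 ≠ 0 := by
  classical
  obtain ⟨g, hg⟩ := exists_no_root (F := F)
  obtain ⟨hcyc, hcard⟩ := centralizer_SL2_irred g (no_eigen_of_no_root g hg)
  obtain ⟨c, hc⟩ := IsCyclic.exists_generator (α := Subgroup.centralizer ({g} : Set SL(2, F)))
  refine ⟨c.1, ?_, ?_⟩
  · rw [Subgroup.orderOf_coe, orderOf_eq_card_of_forall_mem_zpowers hc, hcard]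
  · intro a ha
    obtain ⟨v, hv, hcv⟩ := (exists_eigen_iff c.1 a).mpr ha
    have hgm : g ∈ Subgroup.centralizer ({g} : Set SL(2, F)) :=
      Subgroup.mem_centralizer_singleton_iff.mpr rfl
    have h1 := hc ⟨g, hgm⟩
    rw [← mem_powers_iff_mem_zpowers] at h1
    obtain ⟨k, hk⟩ := h1
    have hk' : (c.1 : SL(2, F)) ^ k = g := by
      have := congrArg Subtype.val hk
      simpa using this
    have hpow : ∀ k : ℕ, (((c.1 : SL(2, F)) ^ k : SL(2, F)) : Matrix (Fin 2) (Fin 2) F) *ᵥ v =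
        a ^ k • v := by
      intro k
      induction k with
      | zero => simp
      | succ k ih =>
        rw [pow_succ, Matrix.SpecialLinearGroup.coe_mul, ← Matrix.mulVec_mulVec, hcv,
          Matrix.mulVec_smul, ih, smul_smul, pow_succ, mul_comm]
    have := hpow k
    rw [hk'] at this
    exact no_eigen_of_no_root g hg _ v hv this

end finite

end Cfsg.Agent.Lib.Helper12
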