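import Mathlib
import Cfsg.Agent.Lib.Helper12.PSL2Cent

set_option autoImplicit false

namespace Cfsg.Agent.Lib.Helper12

open Matrix Matrix.SpecialLinearGroup
open scoped MatrixGroups

section general
variable {G : Type*} [Group G]

theorem le_normalizer_of_forall (K H : Subgroup G) (hK : ∀ k ∈ K, ∀ x ∈ H, k * x * k⁻¹ ∈ H) :
    K ≤ Subgroup.normalizer (H : Set G) := by
  intro k hk
  apply Subgroup.mem_normalizer_iff.mpr
  intro x
  constructor
  · exact hK k hk x
  · intro hx
    have := hK k⁻¹ (K.inv_mem hk) _ hx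
    have h4 : k⁻¹ * (k * x * k⁻¹) * k⁻¹⁻¹ = x := by group
    rwa [h4] at this

/-- in a Sylow subgroup contained in a "commutative" overgroup, all `ℓ`-elements lie in it. -/
theorem mem_sylow_of_comm {ℓ : ℕ} [Fact ℓ.Prime] (P : Sylow ℓ G) (y : G)
    (hy : ∀ x ∈ P, x * y = y * x) (n : ℕ) (hyn : y ^ (ℓ ^ n) = 1) : y ∈ P := by
  have hyP : IsPGroup ℓ (Subgroup.zpowers y) := by
    obtain ⟨m, -, hm⟩ := (Nat.dvd_prime_pow (Fact.out : ℓ.Prime)).mp (orderOf_dvd_of_pow_eq_one hyn)
    apply IsPGroup.of_card (n := m)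
    rw [Nat.card_zpowers, hm]
  have hle : (P : Subgroup G) ≤ Subgroup.normalizer ((Subgroup.zpowers y : Subgroup G) : Set G) := by
    apply le_normalizer_of_forall
    rintro k hk _ ⟨j, rfl⟩
    have h1 : k * y * k⁻¹ = y := by rw [hy k hk, mul_inv_cancel_right]
    show k * y ^ j * k⁻¹ ∈ _
    rw [← conj_zpow, h1]
    exact Subgroup.zpow_mem _ (Subgroup.mem_zpowers y) j
  have hsup := IsPGroup.to_sup_of_normal_right' P.isPGroup' hyP hle
  have := P.is_maximal' hsup le_sup_left
  show y ∈ (P : Subgroup G)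
  rw [← this]
  exact (le_sup_right : Subgroup.zpowers y ≤ _) (Subgroup.mem_zpowers y)

end general

section field
variable {F : Type*} [Field F]

theorem trace_conj (c g : SL(2, F)) :
    ((c * g * c⁻¹ : SL(2, F)) : Matrix (Fin 2) (Fin 2) F).trace =
      (g : Matrix (Fin 2) (Fin 2) F).trace := by
  rw [Matrix.SpecialLinearGroup.coe_mul, Matrix.trace_mul_comm, ← Matrix.SpecialLinearGroup.coe_mul,
    ← mul_assoc, inv_mul_cancel, one_mul]

theorem trace_linComb (g : Matrix (Fin 2) (Fin 2) F) (x y : F) :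
    (linComb g x y).trace = 2 * x + y * g.trace := by
  simp only [linComb, Matrix.trace_add, Matrix.trace_smul, Matrix.trace_one, Fintype.card_fin,
    smul_eq_mul]
  push_cast
  ring

theorem coe_inv_eq (g : SL(2, F)) : ((g⁻¹ : SL(2, F)) : Matrix (Fin 2) (Fin 2) F) =
    linComb (g : Matrix (Fin 2) (Fin 2) F) (g : Matrix (Fin 2) (Fin 2) F).trace (-1) := by
  ext i j
  rw [linComb_apply, Matrix.trace_fin_two]
  have h00 := sl2_inv_00 g
  have h01 := sl2_inv_01 g
  have h10 := sl2_inv_10 g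
  have h11 := sl2_inv_11 g
  fin_cases i <;> fin_cases j
  · show (g⁻¹) 0 0 = _
    rw [h00]; simp
  · show (g⁻¹) 0 1 = _
    rw [h01]; simp
  · show (g⁻¹) 1 0 = _
    rw [h10]; simp
  · show (g⁻¹) 1 1 = _
    rw [h11]; simp

theorem not_isScal2_of_trace (g : SL(2, F)) (hd : (g : Matrix (Fin 2) (Fin 2) F).trace ^ 2 ≠ 4) :
    ¬ IsScal2 (g : Matrix (Fin 2) (Fin 2) F) := by
  rintro ⟨h1, h2, h3⟩
  apply hd
  have hdet := sl2_det g
  change g 0 1 = 0 at h1
  change g 0 0 = g 1 1 at h3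
  rw [Matrix.trace_fin_two]
  change (g 0 0 + g 1 1) ^ 2 = 4
  rw [h1, ← h3] at hdet
  rw [← h3]
  linear_combination 4 * hdet

theorem comm_of_mem_centralizer (g : SL(2, F)) (hg : ¬ IsScal2 (g : Matrix (Fin 2) (Fin 2) F))
    (h k : SL(2, F)) (hh : h ∈ Subgroup.centralizer ({g} : Set SL(2, F)))
    (hk : k ∈ Subgroup.centralizer ({g} : Set SL(2, F))) : h * k = k * h := by
  rw [Subgroup.mem_centralizer_singleton_iff] at hh hk
  have hc : (h : Matrix (Fin 2) (Fin 2) F) * (g : Matrix (Fin 2) (Fin 2) F) =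
      (g : Matrix (Fin 2) (Fin 2) F) * (h : Matrix (Fin 2) (Fin 2) F) :=
    congrArg (fun z : SL(2, F) => (z : Matrix (Fin 2) (Fin 2) F)) hh
  have kc : (k : Matrix (Fin 2) (Fin 2) F) * (g : Matrix (Fin 2) (Fin 2) F) =
      (g : Matrix (Fin 2) (Fin 2) F) * (k : Matrix (Fin 2) (Fin 2) F) :=
    congrArg (fun z : SL(2, F) => (z : Matrix (Fin 2) (Fin 2) F)) hk
  obtain ⟨x, y, hxy⟩ := exists_linComb_of_comm _ _ hg hc
  apply Subtype.ext
  rw [Matrix.SpecialLinearGroup.coe_mul, Matrix.SpecialLinearGroup.coe_mul, hxy]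
  simp only [linComb, add_mul, mul_add, Matrix.smul_mul, Matrix.mul_smul, Matrix.one_mul,
    Matrix.mul_one, kc]

theorem eq_or_eq_inv_of_trace_eq (h2 : (2 : F) ≠ 0) (g k : SL(2, F))
    (hd : (g : Matrix (Fin 2) (Fin 2) F).trace ^ 2 ≠ 4)
    (hk : k ∈ Subgroup.centralizer ({g} : Set SL(2, F)))
    (htr : (k : Matrix (Fin 2) (Fin 2) F).trace = (g : Matrix (Fin 2) (Fin 2) F).trace) :
    k = g ∨ k = g⁻¹ := by
  have hg := not_isScal2_of_trace g hd
  rw [Subgroup.mem_centralizer_singleton_iff] at hk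
  have kc : (k : Matrix (Fin 2) (Fin 2) F) * (g : Matrix (Fin 2) (Fin 2) F) =
      (g : Matrix (Fin 2) (Fin 2) F) * (k : Matrix (Fin 2) (Fin 2) F) :=
    congrArg (fun z : SL(2, F) => (z : Matrix (Fin 2) (Fin 2) F)) hk
  obtain ⟨x, y, hxy⟩ := exists_linComb_of_comm _ _ hg kc
  have hdet := k.det_coe
  rw [hxy, det_linComb, g.det_coe, one_mul] at hdet
  set t := (g : Matrix (Fin 2) (Fin 2) F).trace with ht
  have htr2 : 2 * x + y * t = t := by
    rw [hxy, trace_linComb] at htr
    exact htr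
  have hx : 2 * x = t * (1 - y) := by linear_combination htr2
  have h3 : (t ^ 2 - 4) * ((1 - y) * (1 + y)) = 0 := by
    linear_combination 4 * hdet - (2 * x + t * (1 - y) + 2 * t * y) * hx
  rcases mul_eq_zero.mp h3 with h4 | h4
  · exact absurd (sub_eq_zero.mp h4) hd
  rcases mul_eq_zero.mp h4 with h5 | h5
  · left
    have hy : y = 1 := by linear_combination -h5
    have hx0 : x = 0 := by
      rw [hy] at hx
      have : 2 * x = 0 := by linear_combination hx
      exact (mul_eq_zero.mp this).resolve_left h2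
    apply Subtype.ext
    rw [hxy, hx0, hy]
    simp [linComb]
  · right
    have hy : y = -1 := by linear_combination h5
    have hx0 : x = t := by
      rw [hy] at hx
      have : 2 * (x - t) = 0 := by linear_combination hx
      exact sub_eq_zero.mp ((mul_eq_zero.mp this).resolve_left h2)
    apply Subtype.ext
    rw [hxy, hx0, hy, coe_inv_eq]

theorem conj_mem_centralizer_iff (g b x : SL(2, F)) (hb : b * g * b⁻¹ = g ∨ b * g * b⁻¹ = g⁻¹) :
    x ∈ Subgroup.centralizer ({g} : Set SL(2, F)) ↔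
      b * x * b⁻¹ ∈ Subgroup.centralizer ({g} : Set SL(2, F)) := by
  rw [Subgroup.mem_centralizer_singleton_iff, Subgroup.mem_centralizer_singleton_iff]
  rcases hb with hb | hb
  · constructor
    · intro h
      calc b * x * b⁻¹ * g = b * x * b⁻¹ * (b * g * b⁻¹) := by rw [hb]
        _ = b * (x * g) * b⁻¹ := by group
        _ = b * (g * x) * b⁻¹ := by rw [h]
        _ = (b * g * b⁻¹) * (b * x * b⁻¹) := by group
        _ = g * (b * x * b⁻¹) := by rw [hb]
    · intro h
      rw [← hb] at h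
      have h1 : b * (x * g) * b⁻¹ = b * (g * x) * b⁻¹ := by
        calc b * (x * g) * b⁻¹ = b * x * b⁻¹ * (b * g * b⁻¹) := by group
          _ = b * g * b⁻¹ * (b * x * b⁻¹) := h
          _ = b * (g * x) * b⁻¹ := by group
      exact mul_left_cancel (mul_right_cancel h1)
  · have hb' : b * g⁻¹ * b⁻¹ = g := by
      have : b * g⁻¹ * b⁻¹ = (b * g * b⁻¹)⁻¹ := by group
      rw [this, hb, inv_inv]
    constructor
    · intro h
      have h' : x * g⁻¹ = g⁻¹ * x := by
        calc x * g⁻¹ = g⁻¹ * (g * x) * g⁻¹ := by group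
          _ = g⁻¹ * (x * g) * g⁻¹ := by rw [h]
          _ = g⁻¹ * x := by group
      calc b * x * b⁻¹ * g = b * x * b⁻¹ * (b * g⁻¹ * b⁻¹) := by rw [hb']
        _ = b * (x * g⁻¹) * b⁻¹ := by group
        _ = b * (g⁻¹ * x) * b⁻¹ := by rw [h']
        _ = (b * g⁻¹ * b⁻¹) * (b * x * b⁻¹) := by group
        _ = g * (b * x * b⁻¹) := by rw [hb']
    · intro h
      rw [← hb'] at h
      have h1 : b * (x * g⁻¹) * b⁻¹ = b * (g⁻¹ * x) * b⁻¹ := by
        calc b * (x * g⁻¹) * b⁻¹ = b * x * b⁻¹ * (b * g⁻¹ * b⁻¹) := by group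
          _ = b * g⁻¹ * b⁻¹ * (b * x * b⁻¹) := h
          _ = b * (g⁻¹ * x) * b⁻¹ := by group
      have h' : x * g⁻¹ = g⁻¹ * x := mul_left_cancel (mul_right_cancel h1)
      calc x * g = g * (g⁻¹ * x) * g := by group
        _ = g * (x * g⁻¹) * g := by rw [h']
        _ = g * x := by group

theorem mem_normalizer_centralizer_iff (h2 : (2 : F) ≠ 0) (g b : SL(2, F))
    (hd : (g : Matrix (Fin 2) (Fin 2) F).trace ^ 2 ≠ 4) :
    b ∈ Subgroup.normalizer ((Subgroup.centralizer ({g} : Set SL(2, F)) : Subgroup SL(2, F)) :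
      Set SL(2, F)) ↔ b * g * b⁻¹ = g ∨ b * g * b⁻¹ = g⁻¹ := by
  constructor
  · intro hb
    have hgm : g ∈ Subgroup.centralizer ({g} : Set SL(2, F)) :=
      Subgroup.mem_centralizer_singleton_iff.mpr rfl
    exact eq_or_eq_inv_of_trace_eq h2 g _ hd ((Subgroup.mem_normalizer_iff.mp hb g).mp hgm)
      (trace_conj b g)
  · intro hb
    apply Subgroup.mem_normalizer_iff.mpr
    intro x
    exact conj_mem_centralizer_iff g b x hb

theorem ne_inv_of_trace (h2 : (2 : F) ≠ 0) (g : SL(2, F))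
    (hd : (g : Matrix (Fin 2) (Fin 2) F).trace ^ 2 ≠ 4) : g ≠ g⁻¹ := by
  intro h
  have h1 : g * g = 1 := by
    nth_rewrite 2 [h]
    exact mul_inv_cancel g
  apply hd
  rcases Cfsg.Agent.Lib.Helper27.PSL2.sq_eq_one h2 g h1 with h3 | h3 <;> rw [h3]
  · simp
    norm_num
  · simp
    norm_num

end field

section finite
variable {F : Type*} [Field F] [Fintype F]

theorem isConj_of_trace_eq (hodd : Fintype.card F % 2 = 1) (g h : SL(2, F))
    (ht : (g : Matrix (Fin 2) (Fin 2) F).trace = (h : Matrix (Fin 2) (Fin 2) F).trace)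
    (hd : (g : Matrix (Fin 2) (Fin 2) F).trace ^ 2 ≠ 4) : IsConj g h := by
  have key : ∀ x : SL(2, F), (x : Matrix (Fin 2) (Fin 2) F).trace ^ 2 ≠ 4 →
      ((x : Matrix (Fin 2) (Fin 2) F) 1 1 - (x : Matrix (Fin 2) (Fin 2) F) 0 0) ^ 2 +
        4 * (x : Matrix (Fin 2) (Fin 2) F) 0 1 * (x : Matrix (Fin 2) (Fin 2) F) 1 0 ≠ 0 := by
    intro x hx h0
    apply hx
    have hdet := sl2_det x
    change (x : Matrix (Fin 2) (Fin 2) F) 0 0 * (x : Matrix (Fin 2) (Fin 2) F) 1 1 -
      (x : Matrix (Fin 2) (Fin 2) F) 0 1 * (x : Matrix (Fin 2) (Fin 2) F) 1 0 = 1 at hdet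
    rw [Matrix.trace_fin_two]
    linear_combination h0 + 4 * hdet
  obtain ⟨x, y, hxy⟩ := Cfsg.Agent.Lib.Helper14.SL2.exists_Qf_eq_one hodd _ (key g hd)
  obtain ⟨x', y', hxy'⟩ := Cfsg.Agent.Lib.Helper14.SL2.exists_Qf_eq_one hodd _ (key h (ht ▸ hd))
  exact Cfsg.Agent.Lib.Helper14.GL2.isConj_SL_of_trace_Qf g h ht x y x' y'
    (by rw [hxy]; exact one_ne_zero) (by rw [hxy, hxy'])

theorem card_normalizer_centralizer (hodd : Fintype.card F % 2 = 1) (g : SL(2, F))
    (hd : (g : Matrix (Fin 2) (Fin 2) F).trace ^ 2 ≠ 4) :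
    Nat.card (Subgroup.normalizer ((Subgroup.centralizer ({g} : Set SL(2, F)) :
      Subgroup SL(2, F)) : Set SL(2, F))) =
      2 * Nat.card (Subgroup.centralizer ({g} : Set SL(2, F))) := by
  have h2 : (2 : F) ≠ 0 := Cfsg.Agent.Lib.Helper14.SL2.two_ne_zero_of_odd hodd
  set T := Subgroup.centralizer ({g} : Set SL(2, F)) with hT
  have hne := ne_inv_of_trace h2 g hd
  have htinv : (g : Matrix (Fin 2) (Fin 2) F).trace =
      ((g⁻¹ : SL(2, F)) : Matrix (Fin 2) (Fin 2) F).trace := by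
    rw [coe_inv_eq, trace_linComb]
    ring
  obtain ⟨c, hc⟩ := isConj_iff.mp (isConj_of_trace_eq hodd g g⁻¹ htinv hd)
  have hrel : T.relIndex (Subgroup.normalizer (T : Set SL(2, F))) = 2 := by
    rw [Subgroup.relIndex_eq_two_iff]
    refine ⟨c, (mem_normalizer_centralizer_iff h2 g c hd).mpr (Or.inr hc), ?_⟩
    intro b hb
    have e1 : b * c * g * (b * c)⁻¹ = b * (c * g * c⁻¹) * b⁻¹ := by group
    rcases (mem_normalizer_centralizer_iff h2 g b hd).mp hb with h | h
    · right
      refine ⟨?_, ?_⟩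
      · rw [hT, Subgroup.mem_centralizer_singleton_iff]
        calc b * g = (b * g * b⁻¹) * b := by group
          _ = g * b := by rw [h]
      · intro h3
        rw [hT, Subgroup.mem_centralizer_singleton_iff] at h3
        have h4 : b * c * g * (b * c)⁻¹ = g := by rw [h3]; group
        rw [e1, hc] at h4
        have h5 : b * g⁻¹ * b⁻¹ = (b * g * b⁻¹)⁻¹ := by group
        rw [h5, h] at h4
        exact hne h4.symm
    · left
      refine ⟨?_, ?_⟩
      · rw [hT, Subgroup.mem_centralizer_singleton_iff]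
        have h4 : b * c * g * (b * c)⁻¹ = g := by
          rw [e1, hc]
          have h5 : b * g⁻¹ * b⁻¹ = (b * g * b⁻¹)⁻¹ := by group
          rw [h5, h, inv_inv]
        calc b * c * g = (b * c * g * (b * c)⁻¹) * (b * c) := by group
          _ = g * (b * c) := by rw [h4]
      · intro h3
        rw [hT, Subgroup.mem_centralizer_singleton_iff] at h3
        have h4 : b * g * b⁻¹ = g := by rw [h3]; group
        rw [h] at h4
        exact hne h4.symm
  have h3 := Subgroup.card_mul_index (T.subgroupOf (Subgroup.normalizer (T : Set SL(2, F))))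
  rw [Nat.card_congr (Subgroup.subgroupOfEquivOfLe Subgroup.le_normalizer).toEquiv] at h3
  have h4 : (T.subgroupOf (Subgroup.normalizer (T : Set SL(2, F)))).index = 2 := hrel
  rw [h4] at h3
  omega

theorem isCyclic_centralizer_split (g : SL(2, F)) (a : F)
    (ha : a ^ 2 - (g : Matrix (Fin 2) (Fin 2) F).trace * a + 1 = 0) (ha2 : a ^ 2 ≠ 1) :
    IsCyclic (Subgroup.centralizer ({g} : Set SL(2, F))) := by
  classical
  have hg := not_isScal2_of_root g a ha ha2
  obtain ⟨ha0, hta⟩ := trace_eq_of_root ha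
  obtain ⟨v, hv, hgv⟩ := (exists_eigen_iff g a).mpr ha
  have key : ∀ h : Subgroup.centralizer ({g} : Set SL(2, F)), ∃ p : F × F,
      ((h : SL(2, F)) : Matrix (Fin 2) (Fin 2) F) = linComb (g : Matrix (Fin 2) (Fin 2) F) p.1 p.2 := by
    intro h
    have hh := Subgroup.mem_centralizer_singleton_iff.mp h.2
    have hc : ((h : SL(2, F)) : Matrix (Fin 2) (Fin 2) F) * (g : Matrix (Fin 2) (Fin 2) F) =
        (g : Matrix (Fin 2) (Fin 2) F) * ((h : SL(2, F)) : Matrix (Fin 2) (Fin 2) F) :=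
      congrArg (fun z : SL(2, F) => (z : Matrix (Fin 2) (Fin 2) F)) hh
    obtain ⟨x, y, hxy⟩ := exists_linComb_of_comm _ _ hg hc
    exact ⟨(x, y), hxy⟩
  choose P hP using key
  have hev : ∀ h : Subgroup.centralizer ({g} : Set SL(2, F)),
      ((h : SL(2, F)) : Matrix (Fin 2) (Fin 2) F) *ᵥ v = ((P h).1 + (P h).2 * a) • v := by
    intro h
    rw [hP h, linComb, Matrix.add_mulVec, Matrix.smul_mulVec, Matrix.smul_mulVec, Matrix.one_mulVec,
      hgv, smul_smul, add_smul]
  have hinj := smul_left_injective F hv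
  let f : Subgroup.centralizer ({g} : Set SL(2, F)) →* F :=
    { toFun := fun h => (P h).1 + (P h).2 * a
      map_one' := by
        apply hinj
        show ((P 1).1 + (P 1).2 * a) • v = (1 : F) • v
        rw [← hev 1]
        simp
      map_mul' := fun h k => by
        apply hinj
        show ((P (h * k)).1 + (P (h * k)).2 * a) • v =
          (((P h).1 + (P h).2 * a) * ((P k).1 + (P k).2 * a)) • v
        rw [← hev (h * k), Subgroup.coe_mul, Matrix.SpecialLinearGroup.coe_mul,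
          ← Matrix.mulVec_mulVec, hev k, Matrix.mulVec_smul, hev h, smul_smul, mul_comm] }
  apply isCyclic_of_injective_ringHom f
  rw [injective_iff_map_eq_one]
  intro k hk
  have hk1 : (P k).1 + (P k).2 * a = 1 := hk
  have hdet := (k : SL(2, F)).det_coe
  rw [hP k, det_linComb, g.det_coe, one_mul, hta] at hdet
  have hprod : ((P k).1 + (P k).2 * a) * ((P k).1 + (P k).2 * a⁻¹) = 1 := by
    rw [← hdet]
    field_simp
    ring
  rw [hk1, one_mul] at hprod
  have hd : a - a⁻¹ ≠ 0 := by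
    intro h
    apply ha2
    field_simp at h
    linear_combination h
  have hy : (P k).2 = 0 := by
    have : (P k).2 * (a - a⁻¹) = 0 := by linear_combination hk1 - hprod
    exact (mul_eq_zero.mp this).resolve_right hd
  have hx : (P k).1 = 1 := by rw [hy] at hk1; linear_combination hk1
  apply Subtype.ext
  apply Subtype.ext
  rw [hP k, hx, hy]
  simp [linComb]

end finite

end Cfsg.Agent.Lib.Helper12
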