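import Mathlib
import Cfsg.Agent.Lib.Helper12.SL2Norm

set_option autoImplicit false

namespace Cfsg.Agent.Lib.Helper12

open Matrix Matrix.SpecialLinearGroup
open scoped MatrixGroups

section abstract
variable {N : Type*} [Group N] [Finite N]

/-- class number of a "dicyclic-like" group. -/
theorem card_conjClasses_dicyclic (T : Subgroup N) (z : N)
    (hidx : T.index = 2) (hz1 : z ≠ 1) (hzT : z ∈ T) (hz2 : z * z = 1)
    (hcomm : ∀ x ∈ T, ∀ y ∈ T, x * y = y * x)
    (hinv : ∀ h, h ∉ T → ∀ x ∈ T, h * x * h⁻¹ = x⁻¹)
    (hsq : ∀ x ∈ T, x * x = 1 → x = 1 ∨ x = z) :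
    2 * Nat.card (ConjClasses N) = Nat.card T + 6 := by
  classical
  haveI := Fintype.ofFinite N
  set n := Nat.card T with hn
  have hn0 : 0 < n := Nat.card_pos
  have hN : Nat.card N = 2 * n := by
    rw [← Subgroup.card_mul_index T, hidx, mul_comm]
  have hzinv : z⁻¹ = z := inv_eq_of_mul_eq_one_right hz2
  have hzc : ∀ b : N, z * b = b * z := by
    intro b
    by_cases hb : b ∈ T
    · exact hcomm z hzT b hb
    · have := hinv b hb z hzT
      rw [hzinv] at this
      calc z * b = (b * z * b⁻¹) * b := by rw [this]
        _ = b * z := by group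
  have h1 := card_comm_eq_card_conjClasses_mul_card N
  have h2 : Nat.card {p : N × N // Commute p.1 p.2} = ∑ a : N, Nat.card {b : N // Commute a b} := by
    rw [Nat.card_congr (Equiv.subtypeProdEquivSigmaSubtype Commute), Nat.card_sigma]
  have hf : ∀ a : N, Nat.card {b : N // Commute a b} =
      (if a ∈ T then n else 4) + (if a = 1 then n else 0) + (if a = z then n else 0) := by
    intro a
    by_cases haT : a ∈ T
    · by_cases ha1 : a = 1
      · have hne : ¬ (a = z) := by rw [ha1]; exact fun h => hz1 h.symm
        rw [if_pos haT, if_pos ha1, if_neg hne, add_zero]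
        have : Nat.card {b : N // Commute a b} = Nat.card N := by
          apply Nat.card_congr
          exact Equiv.subtypeUnivEquiv (fun b => by rw [ha1]; exact Commute.one_left b)
        rw [this, hN]; ring
      · by_cases haz : a = z
        · rw [if_pos haT, if_neg ha1, if_pos haz, add_zero]
          have : Nat.card {b : N // Commute a b} = Nat.card N := by
            apply Nat.card_congr
            exact Equiv.subtypeUnivEquiv (fun b => by rw [haz]; exact hzc b)
          rw [this, hN]; ring
        · rw [if_pos haT, if_neg ha1, if_neg haz, add_zero, add_zero, hn]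
          apply Nat.card_congr
          apply Equiv.subtypeEquivRight
          intro b
          constructor
          · intro hb
            by_contra hbT
            have h3 := hinv b hbT a haT
            have h4 : b * a * b⁻¹ = a := by
              rw [← hb.eq]; group
            rw [h4] at h3
            have h5 : a * a = 1 := by
              nth_rewrite 2 [h3]
              exact mul_inv_cancel a
            rcases hsq a haT h5 with h | h
            · exact ha1 h
            · exact haz h
          · intro hb
            exact hcomm a haT b hb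
    · have ha1 : ¬ (a = 1) := fun h => haT (h ▸ T.one_mem)
      have haz : ¬ (a = z) := fun h => haT (h ▸ hzT)
      rw [if_neg haT, if_neg ha1, if_neg haz, add_zero, add_zero]
      have hset : ∀ b : N, Commute a b ↔ b ∈ ({1, z, a, a * z} : Finset N) := by
        intro b
        simp only [Finset.mem_insert, Finset.mem_singleton]
        constructor
        · intro hb
          have key : ∀ c ∈ T, Commute a c → c = 1 ∨ c = z := by
            intro c hc hac
            have h3 := hinv a haT c hc
            have h4 : a * c * a⁻¹ = c := by rw [hac.eq]; group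
            rw [h4] at h3
            apply hsq c hc
            nth_rewrite 2 [h3]
            exact mul_inv_cancel c
          by_cases hbT : b ∈ T
          · rcases key b hbT hb with h | h
            · left; exact h
            · right; left; exact h
          · have hab : a⁻¹ * b ∈ T := by
              rw [Subgroup.mul_mem_iff_of_index_two hidx, Subgroup.inv_mem_iff]
              exact iff_of_false haT hbT
            have hc : Commute a (a⁻¹ * b) := by
              show a * (a⁻¹ * b) = a⁻¹ * b * a
              rw [mul_assoc, ← hb.eq]; group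
            rcases key _ hab hc with h | h
            · right; right; left
              exact (inv_mul_eq_one.mp h).symm
            · right; right; right
              rw [← h]; group
        · rintro (rfl | rfl | rfl | rfl)
          · exact Commute.one_right a
          · exact (hzc a).symm
          · exact Commute.refl b
          · show a * (a * z) = a * z * a
            rw [mul_assoc a z a, hzc a]
      rw [Nat.card_congr (Equiv.subtypeEquivRight hset), Nat.card_eq_fintype_card, Fintype.card_coe]
      have hazT : a * z ∉ T := fun h => haT ((Subgroup.mul_mem_cancel_right T hzT).mp h)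
      rw [Finset.card_insert_of_notMem, Finset.card_insert_of_notMem, Finset.card_insert_of_notMem,
        Finset.card_singleton]
      · simp only [Finset.mem_singleton]
        intro h
        apply hz1
        exact (mul_eq_left.mp h.symm)
      · simp only [Finset.mem_insert, Finset.mem_singleton]
        rintro (h | h)
        · exact haz h.symm
        · exact hazT (h ▸ hzT)
      · simp only [Finset.mem_insert, Finset.mem_singleton]
        rintro (h | h | h)
        · exact hz1 h.symm
        · exact ha1 h.symm
        · exact hazT (h ▸ T.one_mem)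
  have hcT : (Finset.univ.filter (fun a : N => a ∈ T)).card = n := by
    rw [hn, Nat.card_eq_fintype_card, Fintype.card_subtype]
  have hcT' : (Finset.univ.filter (fun a : N => ¬ a ∈ T)).card = n := by
    have := Finset.card_filter_add_card_filter_not (s := (Finset.univ : Finset N)) (fun a : N => a ∈ T)
    rw [hcT, Finset.card_univ, ← Nat.card_eq_fintype_card, hN] at this
    omega
  have h3 : ∑ a : N, Nat.card {b : N // Commute a b} = n * n + 4 * n + n + n := by
    simp_rw [hf]
    rw [Finset.sum_add_distrib, Finset.sum_add_distrib, Finset.sum_ite_eq' Finset.univ (1 : N),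
      Finset.sum_ite_eq' Finset.univ z, Finset.sum_ite, Finset.sum_const, Finset.sum_const, hcT, hcT']
    simp
    ring
  rw [h2, h3, hN] at h1
  have h4 : n * (n + 6) = n * (2 * Nat.card (ConjClasses N)) := by
    calc n * (n + 6) = n * n + 4 * n + n + n := by ring
      _ = Nat.card (ConjClasses N) * (2 * n) := h1
      _ = n * (2 * Nat.card (ConjClasses N)) := by ring
  exact (Nat.eq_of_mul_eq_mul_left hn0 h4).symm

end abstract

section field
variable {F : Type*} [Field F]

theorem conj_eq_inv (g h x : SL(2, F)) (hg : ¬ IsScal2 (g : Matrix (Fin 2) (Fin 2) F))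
    (hh : h * g * h⁻¹ = g⁻¹) (hx : x ∈ Subgroup.centralizer ({g} : Set SL(2, F))) :
    h * x * h⁻¹ = x⁻¹ := by
  rw [Subgroup.mem_centralizer_singleton_iff] at hx
  have xc : (x : Matrix (Fin 2) (Fin 2) F) * (g : Matrix (Fin 2) (Fin 2) F) =
      (g : Matrix (Fin 2) (Fin 2) F) * (x : Matrix (Fin 2) (Fin 2) F) :=
    congrArg (fun z : SL(2, F) => (z : Matrix (Fin 2) (Fin 2) F)) hx
  obtain ⟨α, β, hxy⟩ := exists_linComb_of_comm _ _ hg xc
  have hh' : (h : Matrix (Fin 2) (Fin 2) F) * (g : Matrix (Fin 2) (Fin 2) F) *
      ((h⁻¹ : SL(2, F)) : Matrix (Fin 2) (Fin 2) F) = ((g⁻¹ : SL(2, F)) : Matrix (Fin 2) (Fin 2) F) :=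
    congrArg (fun z : SL(2, F) => (z : Matrix (Fin 2) (Fin 2) F)) hh
  have h1 : (h : Matrix (Fin 2) (Fin 2) F) * ((h⁻¹ : SL(2, F)) : Matrix (Fin 2) (Fin 2) F) = 1 := by
    rw [← Matrix.SpecialLinearGroup.coe_mul, mul_inv_cancel]
    rfl
  apply Subtype.ext
  rw [Matrix.SpecialLinearGroup.coe_mul, Matrix.SpecialLinearGroup.coe_mul, coe_inv_eq x, hxy,
    trace_linComb]
  have e1 : (h : Matrix (Fin 2) (Fin 2) F) * linComb (g : Matrix (Fin 2) (Fin 2) F) α β *
      ((h⁻¹ : SL(2, F)) : Matrix (Fin 2) (Fin 2) F) =
      α • 1 + β • ((g⁻¹ : SL(2, F)) : Matrix (Fin 2) (Fin 2) F) := by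
    rw [← hh', ← h1]
    simp only [linComb, mul_add, add_mul, Matrix.mul_smul, Matrix.smul_mul, Matrix.mul_one]
  rw [e1, coe_inv_eq g]
  simp only [linComb]
  module

theorem sq_eq_neg_one_of_conj_inv (h2 : (2 : F) ≠ 0) (g h : SL(2, F))
    (hd : (g : Matrix (Fin 2) (Fin 2) F).trace ^ 2 ≠ 4) (hh : h * g * h⁻¹ = g⁻¹) : h * h = -1 := by
  have hg := not_isScal2_of_trace g hd
  have hmem : h * h ∈ Subgroup.centralizer ({g} : Set SL(2, F)) := by
    rw [Subgroup.mem_centralizer_singleton_iff]
    have e1 : h * g⁻¹ * h⁻¹ = g := by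
      have : h * g⁻¹ * h⁻¹ = (h * g * h⁻¹)⁻¹ := by group
      rw [this, hh, inv_inv]
    calc h * h * g = h * (h * g * h⁻¹) * h := by group
      _ = (h * g⁻¹ * h⁻¹) * (h * h) := by rw [hh]; group
      _ = g * (h * h) := by rw [e1]
  have h3 := conj_eq_inv g h (h * h) hg hh hmem
  have h4 : h * (h * h) * h⁻¹ = h * h := by group
  rw [h4] at h3
  have h5 : (h * h) * (h * h) = 1 := by
    nth_rewrite 2 [h3]
    exact mul_inv_cancel _
  rcases Cfsg.Agent.Lib.Helper27.PSL2.sq_eq_one h2 _ h5 with h6 | h6
  · exfalso
    have hne := ne_inv_of_trace h2 g hd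
    rcases Cfsg.Agent.Lib.Helper27.PSL2.sq_eq_one h2 _ h6 with h7 | h7
    · rw [h7] at hh
      simp at hh
      exact hne hh
    · rw [h7] at hh
      simp at hh
      exact hne hh
  · exact h6

end field

section finite
variable {F : Type*} [Field F] [Fintype F]

theorem card_conjClasses_normalizer (hodd : Fintype.card F % 2 = 1) (g : SL(2, F))
    (hd : (g : Matrix (Fin 2) (Fin 2) F).trace ^ 2 ≠ 4) :
    2 * Nat.card (ConjClasses (Subgroup.normalizer ((Subgroup.centralizer ({g} : Set SL(2, F)) :
      Subgroup SL(2, F)) : Set SL(2, F)))) =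
      Nat.card (Subgroup.centralizer ({g} : Set SL(2, F))) + 6 := by
  have h2 : (2 : F) ≠ 0 := Cfsg.Agent.Lib.Helper14.SL2.two_ne_zero_of_odd hodd
  have hg := not_isScal2_of_trace g hd
  set T := Subgroup.centralizer ({g} : Set SL(2, F)) with hT
  set N := Subgroup.normalizer (T : Set SL(2, F)) with hN
  have hTN : T ≤ N := Subgroup.le_normalizer
  have hcT : Nat.card (T.subgroupOf N) = Nat.card T :=
    Nat.card_congr (Subgroup.subgroupOfEquivOfLe hTN).toEquiv
  have hidx : (T.subgroupOf N).index = 2 := by
    have h3 := Subgroup.card_mul_index (T.subgroupOf N)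
    rw [hcT, hN, hT, card_normalizer_centralizer hodd g hd, mul_comm] at h3
    exact Nat.eq_of_mul_eq_mul_right Nat.card_pos h3
  have hzT : (-1 : SL(2, F)) ∈ T := by
    rw [hT, Subgroup.mem_centralizer_singleton_iff]
    simp
  rw [← hcT]
  apply card_conjClasses_dicyclic (T.subgroupOf N) ⟨-1, hTN hzT⟩ hidx
  · intro h
    have := congrArg Subtype.val h
    exact (Cfsg.Agent.Lib.Helper27.PSL2.one_ne_neg_one h2) this.symm
  · exact Subgroup.mem_subgroupOf.mpr hzT
  · apply Subtype.ext
    show (-1 : SL(2, F)) * (-1) = 1
    simp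
  · intro x hx y hy
    apply Subtype.ext
    exact comm_of_mem_centralizer g hg x.1 y.1 (Subgroup.mem_subgroupOf.mp hx)
      (Subgroup.mem_subgroupOf.mp hy)
  · intro h hh x hx
    apply Subtype.ext
    show h.1 * x.1 * h.1⁻¹ = x.1⁻¹
    apply conj_eq_inv g h.1 x.1 hg _ (Subgroup.mem_subgroupOf.mp hx)
    rcases (mem_normalizer_centralizer_iff h2 g h.1 hd).mp h.2 with h3 | h3
    · exfalso
      apply hh
      apply Subgroup.mem_subgroupOf.mpr
      rw [hT, Subgroup.mem_centralizer_singleton_iff]
      calc h.1 * g = (h.1 * g * h.1⁻¹) * h.1 := by group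
        _ = g * h.1 := by rw [h3]
    · exact h3
  · intro x _ hxx
    have h3 : x.1 * x.1 = 1 := congrArg Subtype.val hxx
    rcases Cfsg.Agent.Lib.Helper27.PSL2.sq_eq_one h2 _ h3 with h4 | h4
    · left; exact Subtype.ext h4
    · right; exact Subtype.ext h4

end finite

end Cfsg.Agent.Lib.Helper12
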