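import Mathlib
import Cfsg.Agent.Lib.Helper12.KleinConj
import Cfsg.Agent.Lib.Helper12.PSL2Cent
import Cfsg.Agent.Lib.Helper12.SL2Dicyclic

set_option autoImplicit false

namespace Cfsg.Agent.Lib.Helper12

open Matrix
open scoped MatrixGroups
open Cfsg.Agent.Lib.Helper27.PSL2 (sq_eq_one sq_eq_neg_one_iff one_ne_neg_one ne_neg isConj_of_tr_zero
  isConj_of_orderOf_two tr orderOf_mk_eq_two_iff tr_zero_of_anticomm mk_eq_iff comm_mk_iff)

section
variable {F : Type*} [Field F]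

/-- quaternion pairs in `SL₂`. -/
def QP (u v : SL(2, F)) : Prop := u * u = -1 ∧ v * v = -1 ∧ v * u = -(u * v)

theorem QP.conj {u v : SL(2, F)} (h : QP u v) (g : SL(2, F)) :
    QP (g * u * g⁻¹) (g * v * g⁻¹) := by
  obtain ⟨hu, hv, huv⟩ := h
  refine ⟨?_, ?_, ?_⟩
  · calc g * u * g⁻¹ * (g * u * g⁻¹) = g * (u * u) * g⁻¹ := by group
      _ = -1 := by rw [hu, mul_neg, mul_one, neg_mul, mul_inv_cancel]
  · calc g * v * g⁻¹ * (g * v * g⁻¹) = g * (v * v) * g⁻¹ := by group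
      _ = -1 := by rw [hv, mul_neg, mul_one, neg_mul, mul_inv_cancel]
  · calc g * v * g⁻¹ * (g * u * g⁻¹) = g * (v * u) * g⁻¹ := by group
      _ = -(g * (u * v) * g⁻¹) := by rw [huv, mul_neg, neg_mul]
      _ = -(g * u * g⁻¹ * (g * v * g⁻¹)) := by congr 1; group

theorem QP.not_scal (h2 : (2 : F) ≠ 0) {u v : SL(2, F)} (h : QP u v) :
    ¬ IsScal2 (u : Matrix (Fin 2) (Fin 2) F) := by
  apply not_isScal2_of_trace
  have : (u : Matrix (Fin 2) (Fin 2) F).trace = 0 := by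
    rw [Matrix.trace_fin_two]; exact (sq_eq_neg_one_iff u).mp h.1
  rw [this]
  intro h4
  apply h2
  have : (2 : F) * 2 = 0 := by linear_combination -h4
  exact (mul_self_eq_zero.mp this)

theorem QP.mulT (h2 : (2 : F) ≠ 0) {u v : SL(2, F)} (h : QP u v) (y : SL(2, F))
    (hy : y ∈ Subgroup.centralizer ({u} : Set SL(2, F))) : QP u (y * v) := by
  obtain ⟨hu, hv, huv⟩ := h
  rw [Subgroup.mem_centralizer_singleton_iff] at hy
  have h1 : y * v * u = -(u * (y * v)) := by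
    rw [mul_assoc, huv, mul_neg, ← mul_assoc, hy, mul_assoc]
  exact ⟨hu, (sq_eq_neg_one_iff _).mpr (tr_zero_of_anticomm h2 u (y * v) hu h1), h1⟩

theorem QP.inv_left {u v : SL(2, F)} (h : QP u v) : u⁻¹ = -u := by
  apply inv_eq_of_mul_eq_one_right
  rw [mul_neg, h.1, neg_neg]

theorem QP.inv_right {u v : SL(2, F)} (h : QP u v) : v⁻¹ = -v := by
  apply inv_eq_of_mul_eq_one_right
  rw [mul_neg, h.2.1, neg_neg]

theorem QP.conjT (h2 : (2 : F) ≠ 0) {u v : SL(2, F)} (h : QP u v) (x : SL(2, F))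
    (hx : x ∈ Subgroup.centralizer ({u} : Set SL(2, F))) : x * v * x⁻¹ = x * x * v := by
  have h1 : v * u * v⁻¹ = u⁻¹ := by
    rw [h.2.2, h.inv_left, neg_mul, mul_assoc, mul_inv_cancel, mul_one]
  have h3 := conj_eq_inv u v x⁻¹ (h.not_scal h2) h1 (Subgroup.inv_mem _ hx)
  rw [inv_inv] at h3
  calc x * v * x⁻¹ = x * (v * x⁻¹ * v⁻¹) * v := by group
    _ = x * x * v := by rw [h3]

theorem QP.ne (h2 : (2 : F) ≠ 0) {u v : SL(2, F)} (h : QP u v) :
    (QuotientGroup.mk' (Subgroup.center SL(2, F)) u ≠ 1) ∧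
    (QuotientGroup.mk' (Subgroup.center SL(2, F)) v ≠ 1) ∧
    (QuotientGroup.mk' (Subgroup.center SL(2, F)) u ≠ QuotientGroup.mk' (Subgroup.center SL(2, F)) v) := by
  have a1 := (orderOf_two_iff _).mp ((orderOf_mk_eq_two_iff h2 u).mpr h.1)
  have a2 := (orderOf_two_iff _).mp ((orderOf_mk_eq_two_iff h2 v).mpr h.2.1)
  refine ⟨a1.2, a2.2, ?_⟩
  intro h3
  have h4 := h.2.2
  rcases (mk_eq_iff u v).mp h3 with h5 | h5
  · rw [h5] at h4
    exact ne_neg h2 _ h4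
  · rw [h5, mul_neg, neg_mul] at h4
    exact ne_neg h2 _ (neg_injective h4)

theorem exists_QP (h2 : (2 : F) ≠ 0) (V : Subgroup (SL(2, F) ⧸ Subgroup.center SL(2, F)))
    (hV : IsKleinFour V) : ∃ u v : SL(2, F), QP u v ∧
      QuotientGroup.mk' (Subgroup.center SL(2, F)) u ∈ V ∧
      QuotientGroup.mk' (Subgroup.center SL(2, F)) v ∈ V := by
  obtain ⟨s, t, hs, ht, hs1, ht1, hne⟩ := klein_exists V hV
  obtain ⟨u, rfl⟩ := QuotientGroup.mk'_surjective _ s
  obtain ⟨v, rfl⟩ := QuotientGroup.mk'_surjective _ t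
  have hss := klein_sq V hV _ hs
  have htt := klein_sq V hV _ ht
  have hst := comm_of_sq _ _ hss htt (klein_sq V hV _ (V.mul_mem hs ht))
  have hu : u * u = -1 := (orderOf_mk_eq_two_iff h2 u).mp ((orderOf_two_iff _).mpr ⟨hss, hs1⟩)
  have hv : v * v = -1 := (orderOf_mk_eq_two_iff h2 v).mp ((orderOf_two_iff _).mpr ⟨htt, ht1⟩)
  refine ⟨u, v, ⟨hu, hv, ?_⟩, hs, ht⟩
  rcases (comm_mk_iff v u).mp hst.symm with h | h
  · exfalso
    apply hne
    have h1 : (v * u) * (v * u) = 1 := by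
      calc (v * u) * (v * u) = v * (u * v) * u := by group
        _ = v * (v * u) * u := by rw [h]
        _ = (v * v) * (u * u) := by group
        _ = 1 := by rw [hv, hu, neg_mul_neg, mul_one]
    have hui : u⁻¹ = -u := by
      apply inv_eq_of_mul_eq_one_right
      rw [mul_neg, hu, neg_neg]
    symm
    apply (mk_eq_iff v u).mpr
    rcases sq_eq_one h2 _ h1 with h | h
    · right
      rw [← hui]; exact eq_inv_of_mul_eq_one_left h
    · left
      have : v = (-1) * u⁻¹ := eq_mul_inv_of_mul_eq h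
      rw [this, hui, neg_mul_neg, one_mul]
  · exact h

end

section fin
variable {F : Type*} [Field F] [Fintype F]

/-- squares have index two in the torus `C(u)`. -/
theorem sq_T (h2 : (2 : F) ≠ 0) {u v : SL(2, F)} (h : QP u v) (y₁ y₂ : SL(2, F))
    (hy₁ : y₁ ∈ Subgroup.centralizer ({u} : Set SL(2, F)))
    (hy₂ : y₂ ∈ Subgroup.centralizer ({u} : Set SL(2, F)))
    (n₁ : ¬ ∃ x ∈ Subgroup.centralizer ({u} : Set SL(2, F)), x * x = y₁)
    (n₂ : ¬ ∃ x ∈ Subgroup.centralizer ({u} : Set SL(2, F)), x * x = y₂) :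
    ∃ x ∈ Subgroup.centralizer ({u} : Set SL(2, F)), x * x = y₁ * y₂ := by
  classical
  set T := Subgroup.centralizer ({u} : Set SL(2, F)) with hT
  have hcomm : ∀ a b : T, a * b = b * a := by
    intro a b
    apply Subtype.ext
    exact comm_of_mem_centralizer u (h.not_scal h2) a.1 b.1 a.2 b.2
  let φ : T →* T := MonoidHom.mk' (fun x => x * x) (by
    intro a b
    calc a * b * (a * b) = a * (b * a) * b := by group
      _ = a * (a * b) * b := by rw [hcomm b a]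
      _ = a * a * (b * b) := by group)
  have hneg : (-1 : SL(2, F)) ∈ T := by
    rw [← h.1]
    exact T.mul_mem (Subgroup.mem_centralizer_singleton_iff.mpr rfl)
      (Subgroup.mem_centralizer_singleton_iff.mpr rfl)
  have hker : Nat.card φ.ker = 2 := by
    have h1 : (φ.ker : Set T) = {1, ⟨-1, hneg⟩} := by
      ext x
      simp only [SetLike.mem_coe, MonoidHom.mem_ker, Set.mem_insert_iff, Set.mem_singleton_iff]
      constructor
      · intro hx
        have hx' : x.1 * x.1 = 1 := congrArg Subtype.val hx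
        rcases sq_eq_one h2 _ hx' with h | h
        · left; exact Subtype.ext h
        · right; exact Subtype.ext h
      · rintro (rfl | rfl)
        · exact map_one φ
        · apply Subtype.ext
          show (-1 : SL(2, F)) * (-1) = 1
          rw [neg_mul_neg, mul_one]
    have h3 : Nat.card φ.ker = (φ.ker : Set T).ncard := rfl
    rw [h3, h1]
    apply Set.ncard_pair
    intro h4
    exact one_ne_neg_one h2 (congrArg Subtype.val h4)
  have hidx : φ.range.index = 2 := by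
    have e1 := Subgroup.card_mul_index φ.ker
    have e2 := Subgroup.card_mul_index φ.range
    rw [Subgroup.index_ker, hker] at e1
    have hpos : 0 < Nat.card φ.range := Nat.card_pos
    have : Nat.card φ.range * φ.range.index = Nat.card φ.range * 2 := by rw [e2, ← e1, mul_comm]
    exact Nat.eq_of_mul_eq_mul_left hpos this
  have m₁ : (⟨y₁, hy₁⟩ : T) ∉ φ.range := by
    rintro ⟨x, hx⟩
    exact n₁ ⟨x.1, x.2, congrArg Subtype.val hx⟩
  have m₂ : (⟨y₂, hy₂⟩ : T) ∉ φ.range := by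
    rintro ⟨x, hx⟩
    exact n₂ ⟨x.1, x.2, congrArg Subtype.val hx⟩
  obtain ⟨x, hx⟩ := (Subgroup.mul_mem_iff_of_index_two hidx).mpr (iff_of_false m₁ m₂)
  exact ⟨x.1, x.2, congrArg Subtype.val hx⟩

/-- normal form of a four-group relative to a fixed quaternion pair. -/
theorem klein_normal_form (hodd : Fintype.card F % 2 = 1) {u v : SL(2, F)} (h : QP u v)
    (W : Subgroup (SL(2, F) ⧸ Subgroup.center SL(2, F))) (hW : IsKleinFour W) :
    ∃ g y : SL(2, F), y ∈ Subgroup.centralizer ({u} : Set SL(2, F)) ∧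
      QuotientGroup.mk' (Subgroup.center SL(2, F)) (g * u * g⁻¹) ∈ W ∧
      QuotientGroup.mk' (Subgroup.center SL(2, F)) (g * (y * v) * g⁻¹) ∈ W := by
  have h2 : (2 : F) ≠ 0 := Cfsg.Agent.Lib.Helper14.SL2.two_ne_zero_of_odd hodd
  obtain ⟨u', v', h', hu', hv'⟩ := exists_QP h2 W hW
  obtain ⟨g, hg⟩ := isConj_iff.mp (isConj_of_tr_zero hodd u u' ((sq_eq_neg_one_iff u).mp h.1)
    ((sq_eq_neg_one_iff u').mp h'.1))
  have h'' := h'.conj g⁻¹
  rw [inv_inv] at h''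
  have e1 : g⁻¹ * u' * g = u := by rw [← hg]; group
  rw [e1] at h''
  refine ⟨g, g⁻¹ * v' * g * v⁻¹, ?_, ?_, ?_⟩
  · rw [Subgroup.mem_centralizer_singleton_iff]
    have a1 : v⁻¹ * u = -(u * v⁻¹) := by
      rw [h.inv_right, neg_mul, h.2.2, mul_neg, neg_neg]
    rw [mul_assoc, a1, mul_neg, ← mul_assoc, h''.2.2, neg_mul, neg_neg, mul_assoc]
  · rw [hg]; exact hu'
  · have : g * (g⁻¹ * v' * g * v⁻¹ * v) * g⁻¹ = v' := by group
    rw [this]; exact hv'

/-- conjugacy of four-groups whose parameters differ by a square of the torus. -/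
theorem klein_conj_of_sq (h2 : (2 : F) ≠ 0) {u v : SL(2, F)} (h : QP u v)
    (V W : Subgroup (SL(2, F) ⧸ Subgroup.center SL(2, F))) (hV : IsKleinFour V) (hW : IsKleinFour W)
    (g₁ y₁ g₂ y₂ x : SL(2, F))
    (hy₁ : y₁ ∈ Subgroup.centralizer ({u} : Set SL(2, F)))
    (hx : x ∈ Subgroup.centralizer ({u} : Set SL(2, F)))
    (a₁ : QuotientGroup.mk' (Subgroup.center SL(2, F)) (g₁ * u * g₁⁻¹) ∈ V)
    (b₁ : QuotientGroup.mk' (Subgroup.center SL(2, F)) (g₁ * (y₁ * v) * g₁⁻¹) ∈ V)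
    (a₂ : QuotientGroup.mk' (Subgroup.center SL(2, F)) (g₂ * u * g₂⁻¹) ∈ W)
    (b₂ : QuotientGroup.mk' (Subgroup.center SL(2, F)) (g₂ * (y₂ * v) * g₂⁻¹) ∈ W)
    (hxy : x * x * y₁ = y₂) :
    ∃ g, W = V.map (MulAut.conj g).toMonoidHom := by
  have hq := ((h.mulT h2 y₁ hy₁).conj g₁).ne h2
  refine ⟨QuotientGroup.mk' _ (g₂ * x * g₁⁻¹), klein_map_eq V W hV hW _ _ a₁ b₁ hq.1 hq.2.1 hq.2.2 _ ?_ ?_⟩
  · rw [← map_inv, ← map_mul, ← map_mul]
    have hx' : x * u = u * x := Subgroup.mem_centralizer_singleton_iff.mp hx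
    have : g₂ * x * g₁⁻¹ * (g₁ * u * g₁⁻¹) * (g₂ * x * g₁⁻¹)⁻¹ = g₂ * u * g₂⁻¹ := by
      calc g₂ * x * g₁⁻¹ * (g₁ * u * g₁⁻¹) * (g₂ * x * g₁⁻¹)⁻¹ = g₂ * (x * u) * x⁻¹ * g₂⁻¹ := by group
        _ = g₂ * u * g₂⁻¹ := by rw [hx']; group
    rw [this]; exact a₂
  · rw [← map_inv, ← map_mul, ← map_mul]
    have hc := comm_of_mem_centralizer u (h.not_scal h2) x y₁ hx hy₁
    have h3 := h.conjT h2 x hx
    have hc2 : y₁ * (x * x) = x * x * y₁ := by
      rw [← mul_assoc, ← hc, mul_assoc, ← hc, mul_assoc]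
    have : g₂ * x * g₁⁻¹ * (g₁ * (y₁ * v) * g₁⁻¹) * (g₂ * x * g₁⁻¹)⁻¹ = g₂ * (y₂ * v) * g₂⁻¹ := by
      calc g₂ * x * g₁⁻¹ * (g₁ * (y₁ * v) * g₁⁻¹) * (g₂ * x * g₁⁻¹)⁻¹
          = g₂ * ((x * y₁) * (v * x⁻¹)) * g₂⁻¹ := by group
        _ = g₂ * (y₁ * (x * v * x⁻¹)) * g₂⁻¹ := by rw [hc]; group
        _ = g₂ * ((y₁ * (x * x)) * v) * g₂⁻¹ := by rw [h3]; group
        _ = g₂ * ((x * x * y₁) * v) * g₂⁻¹ := by rw [hc2]
        _ = g₂ * (y₂ * v) * g₂⁻¹ := by rw [hxy]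
    rw [this]; exact b₂

/-- `u` is a square in its torus only if `2` is a square. -/
theorem isSquare_two_of_sq_eq (u x : SL(2, F)) (hu : u * u = -1) (hx : x * x = u) :
    IsSquare (2 : F) := by
  refine ⟨(x : Matrix (Fin 2) (Fin 2) F).trace, ?_⟩
  have htr : tr u = 0 := (sq_eq_neg_one_iff u).mp hu
  have hdet := sl2_det x
  rw [← hx] at htr
  unfold tr at htr
  rw [Matrix.SpecialLinearGroup.coe_mul, Matrix.mul_apply, Matrix.mul_apply, Fin.sum_univ_two,
    Fin.sum_univ_two] at htr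
  rw [Matrix.trace_fin_two]
  change x 0 0 * x 0 0 + x 0 1 * x 1 0 + (x 1 0 * x 0 1 + x 1 1 * x 1 1) = 0 at htr
  change (2 : F) = (x 0 0 + x 1 1) * (x 0 0 + x 1 1)
  linear_combination (-2) * hdet - htr

theorem exists_sq_eq_of_isSquare_two (h2 : (2 : F) ≠ 0) (u : SL(2, F)) (hu : u * u = -1)
    (hsq : IsSquare (2 : F)) :
    ∃ x ∈ Subgroup.centralizer ({u} : Set SL(2, F)), x * x = u := by
  obtain ⟨r, hr⟩ := hsq
  have hr0 : r ≠ 0 := by
    rintro rfl
    apply h2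
    rw [hr, mul_zero]
  have htr : (u : Matrix (Fin 2) (Fin 2) F).trace = 0 := by
    rw [Matrix.trace_fin_two]; exact (sq_eq_neg_one_iff u).mp hu
  have hdet : (linComb (u : Matrix (Fin 2) (Fin 2) F) r⁻¹ r⁻¹).det = 1 := by
    rw [det_linComb, htr, u.2]
    field_simp
    linear_combination hr
  have hU : (u : Matrix (Fin 2) (Fin 2) F) * (u : Matrix (Fin 2) (Fin 2) F) = -1 := by
    rw [← Matrix.SpecialLinearGroup.coe_mul, hu]
    simp
  obtain ⟨w, hw⟩ : ∃ w : SL(2, F), (w : Matrix (Fin 2) (Fin 2) F) =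
    linComb (u : Matrix (Fin 2) (Fin 2) F) r⁻¹ r⁻¹ := ⟨⟨_, hdet⟩, rfl⟩
  refine ⟨w, ?_, ?_⟩
  · rw [Subgroup.mem_centralizer_singleton_iff]
    apply Subtype.ext
    rw [Matrix.SpecialLinearGroup.coe_mul, Matrix.SpecialLinearGroup.coe_mul, hw]
    exact linComb_comm _ _ _
  · apply Subtype.ext
    rw [Matrix.SpecialLinearGroup.coe_mul, hw]
    simp only [linComb, add_mul, mul_add, Matrix.smul_mul, Matrix.mul_smul, Matrix.one_mul,
      Matrix.mul_one, hU, smul_smul]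
    have e : r⁻¹ * r⁻¹ = 2⁻¹ := by
      rw [hr]; field_simp
    rw [e]
    have : (2⁻¹ : F) + 2⁻¹ = 1 := by field_simp; norm_num
    calc (2⁻¹ : F) • (1 : Matrix (Fin 2) (Fin 2) F) + (2⁻¹ : F) • (u : Matrix (Fin 2) (Fin 2) F) +
        ((2⁻¹ : F) • (u : Matrix (Fin 2) (Fin 2) F) + (2⁻¹ : F) • (-1 : Matrix (Fin 2) (Fin 2) F))
        = ((2⁻¹ : F) + 2⁻¹) • (u : Matrix (Fin 2) (Fin 2) F) := by module
      _ = u := by rw [this, one_smul]

end fin

end Cfsg.Agent.Lib.Helper12
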