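import Mathlib

set_option autoImplicit false

namespace Cfsg.Agent.Lib.Helper12

open Equiv

/-- An injective hom into `Perm (Fin n)` from a group of order `n!` is an isomorphism. -/
theorem mulEquiv_perm_of_injective {G : Type*} [Group G] {n : ℕ}
    (φ : G →* Perm (Fin n)) (hφ : Function.Injective φ) (hc : Nat.card G = n.factorial) :
    Nonempty (G ≃* Perm (Fin n)) := by
  have : Finite G := Finite.of_injective φ hφ
  have hcard : Nat.card G = Nat.card (Perm (Fin n)) := by
    rw [hc, Nat.card_perm, Nat.card_fin]
  have hb : Function.Bijective φ := (Nat.bijective_iff_injective_and_card φ).mpr ⟨hφ, hcard⟩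
  exact ⟨MulEquiv.ofBijective φ hb⟩

/-- An injective hom into `Perm (Fin n)` from a group of order `n!/2` has image `A_n`. -/
theorem mulEquiv_alternating_of_injective {G : Type*} [Group G] {n : ℕ}
    (φ : G →* Perm (Fin n)) (hφ : Function.Injective φ) (hc : 2 * Nat.card G = n.factorial) :
    Nonempty (G ≃* alternatingGroup (Fin n)) := by
  have : Finite G := Finite.of_injective φ hφ
  have h1 : Nat.card φ.range = Nat.card G :=
    (Nat.card_congr (MonoidHom.ofInjective hφ).toEquiv).symm
  have h2 := φ.range.card_mul_index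
  rw [h1, Nat.card_perm, Nat.card_fin, ← hc, mul_comm] at h2
  have hpos : 0 < Nat.card G := Nat.card_pos
  have h3 : φ.range.index = 2 := Nat.eq_of_mul_eq_mul_right hpos h2
  have h4 := Equiv.Perm.eq_alternatingGroup_of_index_eq_two h3
  exact ⟨(MonoidHom.ofInjective hφ).trans (MulEquiv.subgroupCongr h4)⟩

/-- transport an injective hom to `Perm X` to `Perm (Fin n)` -/
theorem exists_injective_perm_fin {G X : Type*} [Group G] [Finite X] {n : ℕ}
    (hX : Nat.card X = n) (ψ : G →* Perm X) (hψ : Function.Injective ψ) :
    ∃ φ : G →* Perm (Fin n), Function.Injective φ := by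
  let e : X ≃ Fin n := Finite.equivFinOfCardEq hX
  exact ⟨e.permCongrHom.toMonoidHom.comp ψ, e.permCongrHom.injective.comp hψ⟩

/-- A proper subgroup of a simple group gives a faithful action on cosets. -/
theorem exists_injective_of_simple {G : Type*} [Group G] [IsSimpleGroup G] (H : Subgroup G)
    [H.FiniteIndex] (hH : H ≠ ⊤) :
    ∃ φ : G →* Perm (Fin H.index), Function.Injective φ := by
  have hk : (MulAction.toPermHom G (G ⧸ H)).ker = ⊥ := by
    rcases (MulAction.toPermHom G (G ⧸ H)).normal_ker.eq_bot_or_eq_top with h | h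
    · exact h
    · exfalso
      rw [← Subgroup.normalCore_eq_ker] at h
      exact hH (top_le_iff.mp (h ▸ H.normalCore_le))
  exact exists_injective_perm_fin (Subgroup.index_eq_card H).symm _
    ((MonoidHom.ker_eq_bot_iff _).mp hk)

theorem card_dvd_factorial_index_of_simple {G : Type*} [Group G] [IsSimpleGroup G] (H : Subgroup G)
    [H.FiniteIndex] (hH : H ≠ ⊤) : Nat.card G ∣ H.index.factorial := by
  obtain ⟨φ, hφ⟩ := exists_injective_of_simple H hH
  have := Subgroup.card_dvd_of_injective φ hφ
  rwa [Nat.card_perm, Nat.card_fin] at this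

end Cfsg.Agent.Lib.Helper12
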