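import Mathlib
import Cfsg.Agent.Lib.Helper12.SL2Norm

set_option autoImplicit false

namespace Cfsg.Agent.Lib.Helper12

open Matrix Matrix.SpecialLinearGroup
open scoped MatrixGroups
open Cfsg.Agent.Lib.Helper14.GL2 (cyc Qf det_cyc mul_cyc exists_Qf_ne_zero)

section field
variable {F : Type*} [Field F]

/-- factorisation of the companion matrix. -/
theorem comp_factor (s t a c : F) (h : a ^ 2 + s * a * c + c ^ 2 - t * (a + c) + 1 = 0) :
    ∃ A B : Matrix (Fin 2) (Fin 2) F, A.det = 1 ∧ B.det = 1 ∧ A.trace = t ∧ B.trace = t ∧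
      A * B = Cfsg.Agent.Lib.Helper14.GL2.comp s 1 := by
  refine ⟨!![a, s * a + c - t; c, t - a],
    !![-(s * a + c - t), -(t - a) - (s * a + c - t) * s; a, c + a * s], ?_, ?_, ?_, ?_, ?_⟩
  · rw [Matrix.det_fin_two_of]
    linear_combination -h
  · rw [Matrix.det_fin_two_of]
    linear_combination -h
  · rw [Matrix.trace_fin_two_of]
    ring
  · rw [Matrix.trace_fin_two_of]
    ring
  · ext i j
    fin_cases i <;> fin_cases j <;>
      simp [Cfsg.Agent.Lib.Helper14.GL2.comp, Matrix.mul_apply, Fin.sum_univ_two]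
    · ring
    · linear_combination h
    · linear_combination -h
    · linear_combination s * (-h)

theorem exists_factor (G : SL(2, F)) (hG : ¬ IsScal2 (G : Matrix (Fin 2) (Fin 2) F)) (t a c : F)
    (h : a ^ 2 + (G : Matrix (Fin 2) (Fin 2) F).trace * a * c + c ^ 2 - t * (a + c) + 1 = 0) :
    ∃ A B : SL(2, F), (A : Matrix (Fin 2) (Fin 2) F).trace = t ∧
      (B : Matrix (Fin 2) (Fin 2) F).trace = t ∧ A * B = G := by
  obtain ⟨A', B', hA, hB, htA, htB, hAB⟩ := comp_factor _ t a c h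
  obtain ⟨x, y, hxy⟩ := exists_Qf_ne_zero (M := (G : Matrix (Fin 2) (Fin 2) F)) hG
  set M := cyc (G : Matrix (Fin 2) (Fin 2) F) x y with hM
  have hu : IsUnit M.det := by rw [hM, det_cyc]; exact isUnit_iff_ne_zero.mpr hxy
  have huM : IsUnit M := (Matrix.isUnit_iff_isUnit_det _).mpr hu
  have hGM : (G : Matrix (Fin 2) (Fin 2) F) * M = M * Cfsg.Agent.Lib.Helper14.GL2.comp (G : Matrix (Fin 2) (Fin 2) F).trace 1 := by
    have := mul_cyc (G : Matrix (Fin 2) (Fin 2) F) x y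
    rwa [G.det_coe] at this
  have htr : ∀ N : Matrix (Fin 2) (Fin 2) F, (M * N * M⁻¹).trace = N.trace := by
    intro N
    rw [Matrix.trace_mul_comm, ← Matrix.mul_assoc, Matrix.nonsing_inv_mul _ hu, Matrix.one_mul]
  refine ⟨⟨M * A' * M⁻¹, by rw [Matrix.det_conj huM, hA]⟩, ⟨M * B' * M⁻¹, by
    rw [Matrix.det_conj huM, hB]⟩, ?_, ?_, ?_⟩
  · show (M * A' * M⁻¹).trace = t
    rw [htr, htA]
  · show (M * B' * M⁻¹).trace = t
    rw [htr, htB]
  · apply Subtype.ext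
    show (M * A' * M⁻¹) * (M * B' * M⁻¹) = (G : Matrix (Fin 2) (Fin 2) F)
    calc (M * A' * M⁻¹) * (M * B' * M⁻¹) = M * A' * (M⁻¹ * M) * B' * M⁻¹ := by
          simp only [Matrix.mul_assoc]
      _ = M * (A' * B') * M⁻¹ := by
          rw [Matrix.nonsing_inv_mul _ hu, Matrix.mul_one, Matrix.mul_assoc M A' B']
      _ = (G : Matrix (Fin 2) (Fin 2) F) * M * M⁻¹ := by rw [hAB, hGM]
      _ = (G : Matrix (Fin 2) (Fin 2) F) := by
          rw [Matrix.mul_assoc, Matrix.mul_nonsing_inv _ hu, Matrix.mul_one]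

theorem mem_center_of_isScal2 (g : SL(2, F)) (hg : IsScal2 (g : Matrix (Fin 2) (Fin 2) F)) :
    g ∈ Subgroup.center SL(2, F) := by
  obtain ⟨h1, h2, h3⟩ := hg
  apply Matrix.SpecialLinearGroup.mem_center_iff.mpr
  refine ⟨(g : Matrix (Fin 2) (Fin 2) F) 0 0, ?_, ?_⟩
  · rw [Fintype.card_fin]
    have hd := sl2_det g
    change (g : Matrix (Fin 2) (Fin 2) F) 0 0 * (g : Matrix (Fin 2) (Fin 2) F) 1 1 -
      (g : Matrix (Fin 2) (Fin 2) F) 0 1 * (g : Matrix (Fin 2) (Fin 2) F) 1 0 = 1 at hd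
    rw [h1, ← h3] at hd
    linear_combination hd
  · ext i j
    fin_cases i <;> fin_cases j <;> simp [h1, h2, h3]

theorem pow_char_mem_center (p : ℕ) [Fact p.Prime] [CharP F p] (g : SL(2, F)) (a : F)
    (ha : a ^ 2 = 1) (ht : (g : Matrix (Fin 2) (Fin 2) F).trace = 2 * a) :
    g ^ p ∈ Subgroup.center SL(2, F) := by
  have hp := pow_char_eq_scalar p g a ha ht
  apply Matrix.SpecialLinearGroup.mem_center_iff.mpr
  refine ⟨a ^ p, ?_, ?_⟩
  · rw [Fintype.card_fin, ← pow_mul, mul_comm, pow_mul, ha, one_pow]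
  · rw [Matrix.SpecialLinearGroup.coe_pow, hp]
    ext i j
    simp [Matrix.scalar_apply, Matrix.diagonal_apply, Matrix.one_apply]

end field

section finite
variable {F : Type*} [Field F] [Fintype F]

theorem exists_param_generic (s t : F) (hs : 2 + s ≠ 0) (hs2 : (2 : F) ≠ 0 → s ^ 2 ≠ 4) :
    ∃ a c : F, a ^ 2 + s * a * c + c ^ 2 - t * (a + c) + 1 = 0 := by
  obtain ⟨x, y, hxy⟩ := exists_conic_rep s (t ^ 2 / (2 + s) - 1) hs2
  refine ⟨x + t / (2 + s), y + t / (2 + s), ?_⟩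
  have h1 : (x + t / (2 + s)) ^ 2 + s * (x + t / (2 + s)) * (y + t / (2 + s)) +
      (y + t / (2 + s)) ^ 2 - t * ((x + t / (2 + s)) + (y + t / (2 + s))) + 1 =
      (x ^ 2 + s * x * y + y ^ 2) - (t ^ 2 / (2 + s) - 1) := by
    field_simp
    ring
  rw [h1, hxy, sub_self]

theorem exists_Qf_eq_one_charTwo [CharP F 2] (M : Matrix (Fin 2) (Fin 2) F)
    (hD : M 1 1 - M 0 0 ≠ 0) : ∃ x y : F, Qf M x y = 1 := by
  have hsq : ∀ e : F, ∃ r : F, r ^ 2 = e := by
    intro e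
    obtain ⟨r, hr⟩ := FiniteField.isSquare_of_char_two (ringChar.eq F 2) e
    exact ⟨r, by rw [hr]; ring⟩
  by_cases hA : M 1 0 = 0
  · by_cases hC : M 0 1 = 0
    · refine ⟨1, (M 1 1 - M 0 0)⁻¹, ?_⟩
      simp only [Qf, hA, hC]
      field_simp
      ring
    · obtain ⟨r, hr⟩ := hsq (-(M 0 1)⁻¹)
      refine ⟨0, r, ?_⟩
      simp only [Qf, hr]
      field_simp
      ring
  · obtain ⟨r, hr⟩ := hsq ((M 1 0)⁻¹)
    refine ⟨r, 0, ?_⟩
    simp only [Qf, hr]
    field_simp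
    ring

theorem isConj_of_trace_eq_charTwo [CharP F 2] (g h : SL(2, F))
    (ht : (g : Matrix (Fin 2) (Fin 2) F).trace = (h : Matrix (Fin 2) (Fin 2) F).trace)
    (hd : (g : Matrix (Fin 2) (Fin 2) F).trace ≠ 0) : IsConj g h := by
  have key : ∀ x : SL(2, F), (x : Matrix (Fin 2) (Fin 2) F).trace ≠ 0 →
      (x : Matrix (Fin 2) (Fin 2) F) 1 1 - (x : Matrix (Fin 2) (Fin 2) F) 0 0 ≠ 0 := by
    intro x hx h0
    apply hx
    rw [Matrix.trace_fin_two]
    have h2 : (2 : F) = 0 := CharTwo.two_eq_zero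
    linear_combination h0 + (x : Matrix (Fin 2) (Fin 2) F) 0 0 * h2
  obtain ⟨x, y, hxy⟩ := exists_Qf_eq_one_charTwo _ (key g hd)
  obtain ⟨x', y', hxy'⟩ := exists_Qf_eq_one_charTwo _ (key h (ht ▸ hd))
  exact Cfsg.Agent.Lib.Helper14.GL2.isConj_SL_of_trace_Qf g h ht x y x' y'
    (by rw [hxy]; exact one_ne_zero) (by rw [hxy, hxy'])

end finite

end Cfsg.Agent.Lib.Helper12
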