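import Mathlib
import Cfsg.Agent.Lib.Helper12.PSL2Klein
import Cfsg.Agent.S0807

set_option autoImplicit false

namespace Cfsg.Agent.Lib.Helper12

open Matrix
open scoped MatrixGroups
open Cfsg.Agent.Lib.Helper27.PSL2 (sq_eq_one sq_eq_neg_one_iff one_ne_neg_one ne_neg isConj_of_tr_zero
  isConj_of_orderOf_two tr orderOf_mk_eq_two_iff tr_zero_of_anticomm mk_eq_iff comm_mk_iff)

section
variable {F : Type*} [Field F]

theorem QP.comm_both (h2 : (2 : F) ≠ 0) {u v : SL(2, F)} (h : QP u v) (x : SL(2, F))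
    (hu : x * u = u * x) (hv : x * v = v * x) : x = 1 ∨ x = -1 := by
  have h1 : v * u * v⁻¹ = u⁻¹ := by
    rw [h.2.2, h.inv_left, neg_mul, mul_assoc, mul_inv_cancel, mul_one]
  have h3 := conj_eq_inv u v x (h.not_scal h2) h1 (Subgroup.mem_centralizer_singleton_iff.mpr hu)
  rw [← hv, mul_assoc, mul_inv_cancel, mul_one] at h3
  apply sq_eq_one h2
  nth_rewrite 2 [h3]
  exact mul_inv_cancel x

theorem eq_or_neg_of_comm (h2 : (2 : F) ≠ 0) (u v : SL(2, F)) (hu : u * u = -1) (hv : v * v = -1)
    (h : v * u = u * v) : v = u ∨ v = -u := by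
  have h1 : (v * u) * (v * u) = 1 := by
    calc (v * u) * (v * u) = v * (u * v) * u := by group
      _ = v * (v * u) * u := by rw [h]
      _ = (v * v) * (u * u) := by group
      _ = 1 := by rw [hv, hu, neg_mul_neg, mul_one]
  have hui : u⁻¹ = -u := by
    apply inv_eq_of_mul_eq_one_right
    rw [mul_neg, hu, neg_neg]
  rcases sq_eq_one h2 _ h1 with h | h
  · right
    rw [← hui]; exact eq_inv_of_mul_eq_one_left h
  · left
    have : v = (-1) * u⁻¹ := eq_mul_inv_of_mul_eq h
    rw [this, hui, neg_mul_neg, one_mul]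

/-- elements commuting projectively with both members of a quaternion pair. -/
theorem QP.mem_of_ctil (h2 : (2 : F) ≠ 0) {u v : SL(2, F)} (h : QP u v) (x : SL(2, F))
    (hu : x * u = u * x ∨ x * u = -(u * x)) (hv : x * v = v * x ∨ x * v = -(v * x)) :
    QuotientGroup.mk' (Subgroup.center SL(2, F)) x = 1 ∨
    QuotientGroup.mk' (Subgroup.center SL(2, F)) x = QuotientGroup.mk' (Subgroup.center SL(2, F)) u ∨
    QuotientGroup.mk' (Subgroup.center SL(2, F)) x = QuotientGroup.mk' (Subgroup.center SL(2, F)) v ∨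
    QuotientGroup.mk' (Subgroup.center SL(2, F)) x =
      QuotientGroup.mk' (Subgroup.center SL(2, F)) u * QuotientGroup.mk' (Subgroup.center SL(2, F)) v := by
  have key : ∀ e : SL(2, F), (x * e) * u = u * (x * e) → (x * e) * v = v * (x * e) →
      QuotientGroup.mk' (Subgroup.center SL(2, F)) x =
        (QuotientGroup.mk' (Subgroup.center SL(2, F)) e)⁻¹ := by
    intro e h1 h3
    have h4 : QuotientGroup.mk' (Subgroup.center SL(2, F)) (x * e) = 1 := by
      rw [QuotientGroup.mk'_apply, QuotientGroup.eq_one_iff,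
        Cfsg.Agent.Lib.Helper27.PSL2.mem_center_iff]
      exact h.comm_both h2 _ h1 h3
    rw [map_mul] at h4
    exact eq_inv_of_mul_eq_one_left h4
  have iu : (QuotientGroup.mk' (Subgroup.center SL(2, F)) u)⁻¹ =
      QuotientGroup.mk' (Subgroup.center SL(2, F)) u := by
    rw [← map_inv, h.inv_left]
    exact (mk_eq_iff _ _).mpr (Or.inr rfl)
  have iv : (QuotientGroup.mk' (Subgroup.center SL(2, F)) v)⁻¹ =
      QuotientGroup.mk' (Subgroup.center SL(2, F)) v := by
    rw [← map_inv, h.inv_right]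
    exact (mk_eq_iff _ _).mpr (Or.inr rfl)
  obtain ⟨huu, hvv, hvu⟩ := h
  rcases hu with hu | hu <;> rcases hv with hv | hv
  · left
    have := key 1 (by rw [mul_one]; exact hu) (by rw [mul_one]; exact hv)
    rw [this, map_one, inv_one]
  · right; left
    rw [← iu]
    apply key u
    · rw [mul_assoc, ← mul_assoc u x u, ← hu, mul_assoc]
    · rw [← mul_assoc v x u, mul_assoc x u v]
      have : v * x = -(x * v) := by rw [hv, neg_neg]
      rw [this, neg_mul, mul_assoc x v u, hvu, mul_neg, neg_neg]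
  · right; right; left
    rw [← iv]
    apply key v
    · rw [← mul_assoc u x v, mul_assoc x v u]
      have : u * x = -(x * u) := by rw [hu, neg_neg]
      rw [this, neg_mul, mul_assoc x u v, hvu, mul_neg]
    · rw [mul_assoc, ← mul_assoc v x v, ← hv, mul_assoc]
  · right; right; right
    have e1 : QuotientGroup.mk' (Subgroup.center SL(2, F)) u *
        QuotientGroup.mk' (Subgroup.center SL(2, F)) v =
        (QuotientGroup.mk' (Subgroup.center SL(2, F)) (v * u))⁻¹ := by
      rw [map_mul, _root_.mul_inv_rev, iu, iv]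
    rw [e1]
    have hu' : u * x = -(x * u) := by rw [hu, neg_neg]
    have hv' : v * x = -(x * v) := by rw [hv, neg_neg]
    apply key (v * u)
    · calc x * (v * u) * u = x * (v * u * u) := by group
        _ = x * (-(u * v) * u) := by rw [hvu]
        _ = -(x * u) * (v * u) := by rw [neg_mul, mul_neg, neg_mul]; congr 1; group
        _ = u * x * (v * u) := by rw [hu']
        _ = u * (x * (v * u)) := by group
    · calc x * (v * u) * v = x * (v * (u * v)) := by group
        _ = x * (v * -(v * u)) := by rw [hvu, neg_neg]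
        _ = -(x * v) * (v * u) := by rw [mul_neg, mul_neg, neg_mul]; congr 1; group
        _ = v * x * (v * u) := by rw [hv']
        _ = v * (x * (v * u)) := by group

end

section fin
variable {F : Type*} [Field F] [Fintype F]

theorem exists_klein (hodd : Odd (Fintype.card F)) :
    ∃ V : Subgroup (SL(2, F) ⧸ Subgroup.center SL(2, F)), IsKleinFour V := by
  haveI : Finite (Matrix.ProjectiveSpecialLinearGroup (Fin 2) F) :=
    inferInstanceAs (Finite (SL(2, F) ⧸ Subgroup.center SL(2, F)))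
  have hcount := Cfsg.Agent.S0807.result (F := F) rfl hodd
  have hpos : 0 < Nat.card (Matrix.ProjectiveSpecialLinearGroup (Fin 2) F) := Nat.card_pos
  have hne : Nonempty {V : Subgroup (Matrix.ProjectiveSpecialLinearGroup (Fin 2) F) //
      IsKleinFour V} := by
    by_contra hemp
    rw [not_nonempty_iff] at hemp
    rw [Nat.card_of_isEmpty] at hcount
    omega
  obtain ⟨⟨V₁, hV₁⟩⟩ := hne
  exact ⟨V₁, hV₁⟩

theorem exists_QP_sylow (hodd : Odd (Fintype.card F)) (S : Sylow 2 SL(2, F)) :
    ∃ u v : SL(2, F), QP u v ∧ u ∈ S ∧ v ∈ S := by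
  have hodd' : Fintype.card F % 2 = 1 := Nat.odd_iff.mp hodd
  have h2 : (2 : F) ≠ 0 := Cfsg.Agent.Lib.Helper14.SL2.two_ne_zero_of_odd hodd'
  obtain ⟨V, hV⟩ := exists_klein hodd
  obtain ⟨u, v, h, hu, hv⟩ := exists_QP h2 V hV
  have hp : IsPGroup 2 (V.comap (QuotientGroup.mk' (Subgroup.center SL(2, F)))) := by
    rintro ⟨x, hx⟩
    refine ⟨2, ?_⟩
    apply Subtype.ext
    show x ^ (2 ^ 2) = 1
    have h1 := klein_sq V hV _ (Subgroup.mem_comap.mp hx)
    rw [← map_mul, QuotientGroup.mk'_apply, QuotientGroup.eq_one_iff,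
      Cfsg.Agent.Lib.Helper27.PSL2.mem_center_iff] at h1
    have : x ^ (2 ^ 2) = (x * x) * (x * x) := by
      norm_num [pow_succ, mul_assoc]
    rw [this]
    rcases h1 with h1 | h1 <;> rw [h1]
    · rw [mul_one]
    · rw [neg_mul_neg, mul_one]
  obtain ⟨S₀, hS₀⟩ := hp.exists_le_sylow
  obtain ⟨g, rfl⟩ := MulAction.exists_smul_eq SL(2, F) S₀ S
  refine ⟨g * u * g⁻¹, g * v * g⁻¹, h.conj g, ?_, ?_⟩
  · exact ⟨u, hS₀ (Subgroup.mem_comap.mpr hu), rfl⟩
  · exact ⟨v, hS₀ (Subgroup.mem_comap.mpr hv), rfl⟩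

end fin

end Cfsg.Agent.Lib.Helper12
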