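import Mathlib
import Cfsg.Agent.S2431
import Cfsg.Agent.Lib.Helper12.SL2Prod

set_option autoImplicit false

namespace Cfsg.Agent.Lib.Helper12

open Matrix
open scoped MatrixGroups
open Cfsg.Agent.Lib.Helper27.PSL2 (sq_eq_one sq_eq_neg_one_iff one_ne_neg_one ne_neg isConj_of_tr_zero
  isConj_of_orderOf_two tr orderOf_mk_eq_two_iff tr_zero_of_anticomm mk_eq_iff comm_mk_iff card_center)
open Cfsg.Agent.S2431 (exists_central_invol center_le_sylow isPGroup_zpowers not_scal_of_sq)

section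
variable {F : Type*} [Field F] [Fintype F]

theorem exists_anticomm (hodd : Odd (Fintype.card F)) (S : Sylow 2 SL(2, F)) (u : SL(2, F))
    (huS : u ∈ S) (huu : u * u = -1) : ∃ w ∈ S, w * u = -(u * w) := by
  have hodd' : Fintype.card F % 2 = 1 := Nat.odd_iff.mp hodd
  have h2 : (2 : F) ≠ 0 := Cfsg.Agent.Lib.Helper14.SL2.two_ne_zero_of_odd hodd'
  obtain ⟨u₁, hu₁S, hu₁, hcen⟩ := exists_central_invol hodd S
  obtain ⟨u₀, v₀, h₀, hu₀, hv₀⟩ := exists_QP_sylow hodd S
  rcases hcen u huS with h | h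
  · have hw : ∃ w ∈ S, w * u₁ = -(u₁ * w) := by
      by_contra hcon
      push Not at hcon
      have hall : ∀ x ∈ S, x ∈ Subgroup.centralizer ({u₁} : Set SL(2, F)) := by
        intro x hx
        rw [Subgroup.mem_centralizer_singleton_iff]
        exact (hcen x hx).resolve_right (hcon x hx)
      have h5 := comm_of_mem_centralizer u₁ (not_scal_of_sq h2 u₁ hu₁) v₀ u₀ (hall _ hv₀) (hall _ hu₀)
      rw [h₀.2.2] at h5
      exact ne_neg h2 _ h5.symm
    obtain ⟨w, hwS, hw⟩ := hw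
    refine ⟨w, hwS, ?_⟩
    rcases eq_or_neg_of_comm h2 u₁ u hu₁ huu h with e | e
    · rw [e]; exact hw
    · rw [e, mul_neg, hw, neg_mul]
  · exact ⟨u₁, hu₁S, by rw [h, neg_neg]⟩

theorem sq_mem_of_normalizer (hodd : Odd (Fintype.card F)) (S : Sylow 2 SL(2, F)) (u : SL(2, F))
    (huS : u ∈ S) (huu : u * u = -1) (t : SL(2, F))
    (ht : t ∈ Subgroup.normalizer ((S : Subgroup SL(2, F)) : Set SL(2, F))) (htu : t * u = u * t) :
    t * t ∈ S := by
  have hodd' : Fintype.card F % 2 = 1 := Nat.odd_iff.mp hodd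
  have h2 : (2 : F) ≠ 0 := Cfsg.Agent.Lib.Helper14.SL2.two_ne_zero_of_odd hodd'
  obtain ⟨w, hwS, hw⟩ := exists_anticomm hodd S u huS huu
  have hq : QP u w := ⟨huu, (sq_eq_neg_one_iff w).mpr (tr_zero_of_anticomm h2 u w huu hw), hw⟩
  have h5 := hq.conjT h2 t (Subgroup.mem_centralizer_singleton_iff.mpr htu)
  have h6 : t * w * t⁻¹ ∈ S := (Subgroup.mem_normalizer_iff.mp ht w).mp hwS
  have : t * t = (t * w * t⁻¹) * w⁻¹ := by rw [h5]; group
  rw [this]
  exact Subgroup.mul_mem _ h6 (Subgroup.inv_mem _ hwS)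

theorem torus_invol (h2 : (2 : F) ≠ 0) (u : SL(2, F)) (huu : u * u = -1) :
    IsCyclic (Subgroup.centralizer ({u} : Set SL(2, F))) ∧
    (Nat.card (Subgroup.centralizer ({u} : Set SL(2, F))) = Fintype.card F - 1 ∨
      Nat.card (Subgroup.centralizer ({u} : Set SL(2, F))) = Fintype.card F + 1) := by
  have htr : (u : Matrix (Fin 2) (Fin 2) F).trace = 0 := by
    rw [Matrix.trace_fin_two]; exact (sq_eq_neg_one_iff u).mp huu
  by_cases h : ∃ a : F, a ^ 2 - (u : Matrix (Fin 2) (Fin 2) F).trace * a + 1 = 0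
  · obtain ⟨a, ha⟩ := h
    have ha2 : a ^ 2 ≠ 1 := by
      intro h1
      rw [htr, h1] at ha
      apply h2
      linear_combination ha
    exact ⟨isCyclic_centralizer_split u a ha ha2, Or.inl (card_centralizer_split u a ha ha2)⟩
  · push Not at h
    obtain ⟨h1, h3⟩ := centralizer_SL2_irred u (no_eigen_of_no_root u h)
    exact ⟨h1, Or.inr h3⟩

theorem card_ctil (hodd' : Fintype.card F % 2 = 1) (u : SL(2, F)) (huu : u * u = -1) :
    Nat.card (ctil u) = 2 * Nat.card (Subgroup.centralizer ({u} : Set SL(2, F))) := by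
  have htr : (u : Matrix (Fin 2) (Fin 2) F).trace = 0 := by
    rw [Matrix.trace_fin_two]; exact (sq_eq_neg_one_iff u).mp huu
  have h3 := Subgroup.card_mul_index ((Subgroup.centralizer ({u} : Set SL(2, F))).subgroupOf (ctil u))
  rw [Nat.card_congr (Subgroup.subgroupOfEquivOfLe (centralizer_le_ctil u)).toEquiv] at h3
  have h4 : ((Subgroup.centralizer ({u} : Set SL(2, F))).subgroupOf (ctil u)).index = 2 :=
    relIndex_ctil hodd' u htr
  rw [h4] at h3
  omega

theorem cover_of_not_pow (hodd : Odd (Fintype.card F)) (h1 : ¬ ∃ k : ℕ, Fintype.card F + 1 = 2 ^ k)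
    (h3 : ¬ ∃ k : ℕ, Fintype.card F = 2 ^ k + 1) (Q : Sylow 2 SL(2, F)) (x : SL(2, F))
    (hx : ∃ k : ℕ, orderOf x = 2 ^ k) : ∃ P : Sylow 2 SL(2, F), P ≠ Q ∧ x ∈ P := by
  have hodd' : Fintype.card F % 2 = 1 := Nat.odd_iff.mp hodd
  have h2 : (2 : F) ≠ 0 := Cfsg.Agent.Lib.Helper14.SL2.two_ne_zero_of_odd hodd'
  have hq1 : 1 < Fintype.card F := Fintype.one_lt_card
  by_cases hxQ : x ∈ Q
  · have hu : ∃ u ∈ Q, u * u = -1 ∧ x * u = u * x := by
      obtain ⟨k, hk⟩ := hx
      by_cases hk2 : k ≤ 1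
      · obtain ⟨u, huQ, huu, -⟩ := exists_central_invol hodd Q
        refine ⟨u, huQ, huu, ?_⟩
        have hxx : x * x = 1 := by
          rw [← pow_two]
          apply orderOf_dvd_iff_pow_eq_one.mp
          rw [hk]
          exact pow_dvd_pow 2 hk2
        rcases sq_eq_one h2 x hxx with rfl | rfl
        · simp
        · simp
      · obtain ⟨j, rfl⟩ : ∃ j, k = j + 2 := ⟨k - 2, by omega⟩
        refine ⟨x ^ (2 ^ j), Subgroup.pow_mem _ hxQ _, ?_, ?_⟩
        · have e1 : x ^ (2 ^ j) * x ^ (2 ^ j) = x ^ (2 ^ (j + 1)) := by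
            rw [← pow_add]; congr 1; ring
          have e2 : x ^ (2 ^ (j + 1)) * x ^ (2 ^ (j + 1)) = 1 := by
            rw [← pow_add]
            have : 2 ^ (j + 1) + 2 ^ (j + 1) = 2 ^ (j + 2) := by ring
            rw [this, ← hk]
            exact pow_orderOf_eq_one x
          rw [e1]
          rcases sq_eq_one h2 _ e2 with e | e
          · exfalso
            have := orderOf_dvd_of_pow_eq_one e
            rw [hk] at this
            have := (Nat.pow_dvd_pow_iff_le_right (by norm_num : 1 < 2)).mp this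
            omega
          · exact e
        · exact (Commute.pow_right (Commute.refl x) _).eq
    obtain ⟨u, huQ, huu, hxu⟩ := hu
    obtain ⟨-, hT⟩ := torus_invol h2 u huu
    have hnp : ¬ ∃ k, Nat.card (Subgroup.centralizer ({u} : Set SL(2, F))) = 2 ^ k := by
      rintro ⟨k, hk⟩
      rcases hT with hT | hT
      · exact h3 ⟨k, by omega⟩
      · exact h1 ⟨k, by omega⟩
    obtain ⟨r, hr, hrd, hro⟩ := (Nat.eq_two_pow_or_exists_odd_prime_and_dvd _).resolve_left hnp
    haveI : Fact r.Prime := ⟨hr⟩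
    obtain ⟨t, ht⟩ := exists_prime_orderOf_dvd_card' (G := Subgroup.centralizer ({u} : Set SL(2, F))) r hrd
    have hto : orderOf t.1 = r := by rw [Subgroup.orderOf_coe, ht]
    have htx : t.1 * x = x * t.1 := comm_of_mem_centralizer u (not_scal_of_sq h2 u huu) t.1 x t.2
      (Subgroup.mem_centralizer_singleton_iff.mpr hxu)
    refine ⟨t.1 • Q, ?_, ?_⟩
    · intro heq
      have htN := Sylow.smul_eq_iff_mem_normalizer.mp heq
      have h5 := sq_mem_of_normalizer hodd Q u huQ huu t.1 htN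
        (Subgroup.mem_centralizer_singleton_iff.mp t.2)
      obtain ⟨k, hk⟩ := Q.2 ⟨t.1 * t.1, h5⟩
      have hk' : (t.1 * t.1) ^ (2 ^ k) = 1 := congrArg Subtype.val hk
      have h6 : t.1 ^ (2 ^ (k + 1)) = 1 := by
        rw [pow_succ, mul_comm, pow_mul, pow_two]
        exact hk'
      have h7 := orderOf_dvd_of_pow_eq_one h6
      rw [hto] at h7
      have h8 := (Nat.prime_dvd_prime_iff_eq hr Nat.prime_two).mp (hr.dvd_of_dvd_pow h7)
      rw [h8] at hro
      exact absurd hro (by decide)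
    · refine ⟨x, hxQ, ?_⟩
      show t.1 * x * t.1⁻¹ = x
      rw [htx, mul_assoc, mul_inv_cancel, mul_one]
  · obtain ⟨k, hk⟩ := hx
    obtain ⟨P, hP⟩ := (isPGroup_zpowers x k (by rw [← hk]; exact pow_orderOf_eq_one x)).exists_le_sylow
    refine ⟨P, ?_, hP (Subgroup.mem_zpowers x)⟩
    rintro rfl
    exact hxQ (hP (Subgroup.mem_zpowers x))

theorem unique_of_pow (hodd : Odd (Fintype.card F))
    (hpow : (∃ k : ℕ, Fintype.card F + 1 = 2 ^ k) ∨ (∃ k : ℕ, Fintype.card F = 2 ^ k + 1))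
    (Q : Sylow 2 SL(2, F)) : ∃ x ∈ Q, ∀ P : Sylow 2 SL(2, F), x ∈ P → P = Q := by
  have hodd' : Fintype.card F % 2 = 1 := Nat.odd_iff.mp hodd
  have h2 : (2 : F) ≠ 0 := Cfsg.Agent.Lib.Helper14.SL2.two_ne_zero_of_odd hodd'
  have hq1 : 1 < Fintype.card F := Fintype.one_lt_card
  obtain ⟨u, huQ, huu, hcen⟩ := exists_central_invol hodd Q
  obtain ⟨hcyc, hT⟩ := torus_invol h2 u huu
  set T := Subgroup.centralizer ({u} : Set SL(2, F)) with hTdef
  have ho4 : orderOf u = 4 := by
    have h4 : u ^ 4 = 1 := by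
      have : u ^ 4 = (u * u) * (u * u) := by norm_num [pow_succ, mul_assoc]
      rw [this, huu, neg_mul_neg, mul_one]
    have h22 : u ^ 2 ≠ 1 := by
      rw [pow_two, huu]
      exact (one_ne_neg_one h2).symm
    exact orderOf_eq_prime_pow (p := 2) (n := 1) (by simpa using h22) (by simpa using h4)
  have h4T : 4 ∣ Nat.card T := by
    rw [← ho4]; exact orderOf_dvd_card_centralizer u
  have hTpow : ∃ j, Nat.card T = 2 ^ j := by
    rcases hT with hT | hT <;> rcases hpow with ⟨k, hk⟩ | ⟨k, hk⟩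
    · exfalso
      rw [hT] at h4T
      rcases k with _ | _ | k
      · simp at hk
      · simp at hk; omega
      · have : 4 ∣ 2 ^ (k + 1 + 1) := ⟨2 ^ k, by ring⟩
        omega
    · exact ⟨k, by omega⟩
    · exact ⟨k, by omega⟩
    · rw [hT] at h4T
      rcases k with _ | _ | k
      · simp at hk; omega
      · refine ⟨2, ?_⟩
        simp at hk
        omega
      · exfalso
        have : 4 ∣ 2 ^ (k + 1 + 1) := ⟨2 ^ k, by ring⟩
        omega
  obtain ⟨j, hj⟩ := hTpow
  have hcc := card_ctil hodd' u huu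
  have hpc : IsPGroup 2 (ctil u) := by
    apply IsPGroup.of_card (n := j + 1)
    rw [hcc, ← hTdef, hj]; ring
  have hQle : (Q : Subgroup SL(2, F)) ≤ ctil u := by
    intro x hx
    exact (mem_ctil u x).mpr (hcen x hx)
  have hQeq : ctil u = Q := Q.3 hpc hQle
  obtain ⟨x, hx⟩ := IsCyclic.exists_generator (α := T)
  have hTQ : T ≤ Q := by rw [← hQeq]; exact centralizer_le_ctil u
  refine ⟨x.1, hTQ x.2, ?_⟩
  intro P hxP
  have hTP : T ≤ P := by
    intro y hy
    obtain ⟨n, hn⟩ := Subgroup.mem_zpowers_iff.mp (hx ⟨y, hy⟩)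
    have : y = x.1 ^ n := by
      have := congrArg Subtype.val hn
      simpa using this.symm
    rw [this]
    exact Subgroup.zpow_mem _ hxP n
  have hcardP : Nat.card P = 2 * Nat.card T := by
    rw [Sylow.card_eq_multiplicity P, ← Sylow.card_eq_multiplicity Q, ← hcc, hQeq]
  have hidx : (T.subgroupOf P).index = 2 := by
    have h3 := Subgroup.card_mul_index (T.subgroupOf (P : Subgroup SL(2, F)))
    rw [Nat.card_congr (Subgroup.subgroupOfEquivOfLe hTP).toEquiv] at h3
    have h5 : Nat.card (P : Subgroup SL(2, F)) = 2 * Nat.card T := hcardP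
    rw [h5, mul_comm 2] at h3
    exact Nat.eq_of_mul_eq_mul_left Nat.card_pos h3
  have hnorm : (T.subgroupOf P).Normal := Subgroup.normal_of_index_eq_two hidx
  have hPN : (P : Subgroup SL(2, F)) ≤ Subgroup.normalizer (T : Set SL(2, F)) :=
    (Subgroup.normal_subgroupOf_iff_le_normalizer hTP).mp hnorm
  have hPle : (P : Subgroup SL(2, F)) ≤ Q := by
    rw [← hQeq]
    intro y hy
    rw [mem_ctil]
    have huT : u ∈ T := Subgroup.mem_centralizer_singleton_iff.mpr rfl
    have h5 : y * u * y⁻¹ ∈ T := (Subgroup.mem_normalizer_iff.mp (hPN hy) u).mp huT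
    have h6 : y * u * y⁻¹ * (y * u * y⁻¹) = -1 := by
      calc y * u * y⁻¹ * (y * u * y⁻¹) = y * (u * u) * y⁻¹ := by group
        _ = -1 := by rw [huu, mul_neg, mul_one, neg_mul, mul_inv_cancel]
    have h7 : y * u = (y * u * y⁻¹) * y := by group
    rcases eq_or_neg_of_comm h2 u _ huu h6 (Subgroup.mem_centralizer_singleton_iff.mp h5) with e | e
    · left; rw [h7, e]
    · right; rw [h7, e, neg_mul]
  exact Sylow.ext (P.3 Q.2 hPle).symm

end

section general
variable {F : Type*} [Field F] [Fintype F] (p : ℕ) [Fact p.Prime]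

theorem sylow_comm_of_no_scalar
    (hsc : ∀ x : SL(2, F), (∃ k : ℕ, orderOf x = p ^ k) →
      IsScal2 (x : Matrix (Fin 2) (Fin 2) F) → x = 1)
    (P : Sylow p SL(2, F)) (a b : SL(2, F)) (ha : a ∈ P) (hb : b ∈ P) : a * b = b * a := by
  by_cases hP : Nontrivial P
  · have hc := P.2.center_nontrivial
    obtain ⟨z, hz⟩ := exists_ne (1 : Subgroup.center P)
    have hz1 : z.1.1 ≠ 1 := by
      intro h
      apply hz
      exact Subtype.ext (Subtype.ext h)
    have hzo : ∃ k : ℕ, orderOf z.1.1 = p ^ k := by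
      obtain ⟨k, hk⟩ := IsPGroup.iff_orderOf.mp P.2 z.1
      exact ⟨k, by rw [Subgroup.orderOf_coe, hk]⟩
    have hns : ¬ IsScal2 (z.1.1 : Matrix (Fin 2) (Fin 2) F) := fun h => hz1 (hsc _ hzo h)
    have hmem : ∀ y ∈ P, y ∈ Subgroup.centralizer ({z.1.1} : Set SL(2, F)) := by
      intro y hy
      rw [Subgroup.mem_centralizer_singleton_iff]
      have h3 := Subgroup.mem_center_iff.mp z.2 ⟨y, hy⟩
      exact congrArg Subtype.val h3
    exact comm_of_mem_centralizer _ hns a b (hmem a ha) (hmem b hb)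
  · rw [not_nontrivial_iff_subsingleton] at hP
    have e1 : (⟨a, ha⟩ : P) = ⟨b, hb⟩ := Subsingleton.elim _ _
    have e2 : a = b := congrArg Subtype.val e1
    rw [e2]

theorem unique_of_no_scalar
    (hsc : ∀ x : SL(2, F), (∃ k : ℕ, orderOf x = p ^ k) →
      IsScal2 (x : Matrix (Fin 2) (Fin 2) F) → x = 1)
    (P Q : Sylow p SL(2, F)) (x : SL(2, F)) (hxP : x ∈ P) (hxQ : x ∈ Q) (hx1 : x ≠ 1) : P = Q := by
  have hxo : ∃ k : ℕ, orderOf x = p ^ k := by
    obtain ⟨k, hk⟩ := IsPGroup.iff_orderOf.mp P.2 ⟨x, hxP⟩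
    exact ⟨k, by rw [← hk, Subgroup.orderOf_mk]⟩
  have hns : ¬ IsScal2 (x : Matrix (Fin 2) (Fin 2) F) := fun h => hx1 (hsc _ hxo h)
  have hle : (P : Subgroup SL(2, F)) ≤ Q := by
    intro y hy
    obtain ⟨n, hn⟩ := P.2 ⟨y, hy⟩
    apply mem_sylow_of_comm Q y _ n (congrArg Subtype.val hn)
    intro w hw
    apply comm_of_mem_centralizer x hns
    · rw [Subgroup.mem_centralizer_singleton_iff]
      exact sylow_comm_of_no_scalar p hsc Q w x hw hxQ
    · rw [Subgroup.mem_centralizer_singleton_iff]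
      exact sylow_comm_of_no_scalar p hsc P y x hy hxP
  exact Sylow.ext (P.3 Q.2 hle).symm

theorem no_scalar (h : p ≠ 2 ∨ (2 : F) = 0) (x : SL(2, F)) (hx : ∃ k : ℕ, orderOf x = p ^ k)
    (hs : IsScal2 (x : Matrix (Fin 2) (Fin 2) F)) : x = 1 := by
  rcases (Cfsg.Agent.Lib.Helper27.PSL2.mem_center_iff x).mp (mem_center_of_isScal2 x hs) with e | e
  · exact e
  · rcases h with h | h
    · obtain ⟨k, hk⟩ := hx
      have h1 : x ^ 2 = 1 := by rw [e, pow_two, neg_mul_neg, mul_one]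
      have h3 := orderOf_dvd_of_pow_eq_one h1
      rw [hk] at h3
      rcases k with _ | k
      · rw [pow_zero, orderOf_eq_one_iff] at hk
        exact hk
      · exfalso
        apply h
        have : p ∣ 2 := (dvd_pow_self p (Nat.succ_ne_zero k)).trans h3
        exact (Nat.prime_dvd_prime_iff_eq Fact.out Nat.prime_two).mp this
    · rw [e]
      apply Subtype.ext
      rw [Matrix.SpecialLinearGroup.coe_neg, Matrix.SpecialLinearGroup.coe_one]
      have : (-1 : F) = 1 := by linear_combination -h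
      ext i j
      rw [Matrix.neg_apply]
      by_cases hij : i = j
      · subst hij; simp [this]
      · simp [hij]

end general

end Cfsg.Agent.Lib.Helper12
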