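import Mathlib
import Cfsg.Agent.Lib.Helper12.SLn

set_option autoImplicit false

namespace Cfsg.Agent.Lib.Helper12

open Matrix Matrix.SpecialLinearGroup
open scoped commutatorElement Fin.NatCast Fin.CommRing

theorem cyc_smul {K : Type*} [Field K] (n : ℕ)
    (w : Matrix.SpecialLinearGroup (Fin (n + 1)) K)
    (hw : (w : Matrix (Fin (n + 1)) (Fin (n + 1)) K) =
      Matrix.of (fun i j => if j.val = i.val + 1 then 1 else if i.val = n ∧ j.val = 0 then (-1) ^ n else 0)) :
    ∃ s : Fin (n + 1) → K, (∀ i, s i * s i = 1) ∧
      ∀ (v : Fin (n + 1) → K) (i : Fin (n + 1)), (w • v) i = s i * v (i + 1) := by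
  classical
  -- the action of w
  set s : Fin (n + 1) → K := fun i => (w : Matrix (Fin (n + 1)) (Fin (n + 1)) K) i (i + 1) with hs
  have hss : ∀ i, s i * s i = 1 := by
    intro i
    simp only [hs, hw, Matrix.of_apply, Fin.val_add_one]
    by_cases hi : i = Fin.last n
    · subst hi
      simp [← mul_pow]
    · simp [hi]
  have hwv : ∀ (v : Fin (n + 1) → K) (i : Fin (n + 1)), (w • v) i = s i * v (i + 1) := by
    intro v i
    rw [Matrix.SpecialLinearGroup.smul_def]
    show ∑ j, (w : Matrix (Fin (n + 1)) (Fin (n + 1)) K) i j * v j = _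
    rw [Finset.sum_eq_single (i + 1)]
    · intro j _ hj
      have : (w : Matrix (Fin (n + 1)) (Fin (n + 1)) K) i j = 0 := by
        rw [hw, Matrix.of_apply]
        have hj' : j.val ≠ (i + 1).val := fun h => hj (Fin.ext h)
        rw [Fin.val_add_one] at hj'
        by_cases hi : i = Fin.last n
        · rw [if_pos hi] at hj'
          have hi' : i.val = n := by rw [hi]; rfl
          have := j.2
          rw [if_neg (by omega), if_neg (by omega)]
        · rw [if_neg hi] at hj'
          have hi' : i.val ≠ n := fun h => hi (Fin.ext h)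
          rw [if_neg hj', if_neg (by tauto)]
      rw [this, zero_mul]
    · intro h; exact absurd (Finset.mem_univ _) h
  exact ⟨s, hss, hwv⟩

theorem cyc_gen {K : Type*} [Field K] (n : ℕ) (hn : 1 ≤ n)
    (w : Matrix.SpecialLinearGroup (Fin (n + 1)) K) (s : Fin (n + 1) → K)
    (hss : ∀ i, s i * s i = 1)
    (hwv : ∀ (v : Fin (n + 1) → K) (i : Fin (n + 1)), (w • v) i = s i * v (i + 1))
    (H : Subgroup (Matrix.SpecialLinearGroup (Fin (n + 1)) K)) (hwH : w ∈ H)
    (hP01 : ∀ (h : (0 : Fin (n + 1)) ≠ 1) (c : K), SpecialLinearGroup.transvection h c ∈ H) :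
    H = ⊤ := by
  classical
  haveI : Nontrivial (Fin (n + 1)) := Fin.nontrivial_iff_two_le.mpr (by omega)
  -- shifting
  have hshift : ∀ (i j : Fin (n + 1)) (hij : i ≠ j) (hij' : i + 1 ≠ j + 1) (c : K),
      w * SpecialLinearGroup.transvection hij' c =
        SpecialLinearGroup.transvection hij (c * s i * s j) * w := by
    intro i j hij hij' c
    apply sl_ext_smul
    intro v
    ext k
    rw [mul_smul, mul_smul, hwv, transvection_smul, transvection_smul]
    by_cases hk : k = i
    · subst hk
      rw [Function.update_self, Function.update_self, hwv, hwv]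
      linear_combination (-(c * s k * v (j + 1))) * hss j
    · have hk' : k + 1 ≠ i + 1 := fun h => hk (add_right_cancel h)
      rw [Function.update_of_ne hk, Function.update_of_ne hk', hwv]
  set P : Fin (n + 1) → Fin (n + 1) → Prop := fun i j =>
    ∀ (h : i ≠ j) (c : K), SpecialLinearGroup.transvection h c ∈ H with hP
  have hPshift : ∀ i j, P i j → P (i + 1) (j + 1) := by
    intro i j hPij hij' c
    have hij : i ≠ j := fun h => hij' (by rw [h])
    have h1 := hshift i j hij hij' c
    have h2 : SpecialLinearGroup.transvection hij' c =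
        w⁻¹ * (SpecialLinearGroup.transvection hij (c * s i * s j) * w) := by
      rw [← h1, inv_mul_cancel_left]
    rw [h2]
    exact H.mul_mem (H.inv_mem hwH) (H.mul_mem (hPij hij _) hwH)
  have hP1 : ∀ k : ℕ, P (k : Fin (n + 1)) ((k : Fin (n + 1)) + 1) := by
    intro k
    induction k with
    | zero =>
      have h01 : P 0 1 := hP01
      simpa using h01
    | succ k ih =>
      have := hPshift _ _ ih
      rwa [← Nat.cast_succ] at this
  have hP1' : ∀ i : Fin (n + 1), P i (i + 1) := by
    intro i
    have := hP1 i.val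
    rwa [Fin.cast_val_eq_self] at this
  have hne : ∀ d : ℕ, 1 ≤ d → d ≤ n → (d : Fin (n + 1)) ≠ 0 := by
    intro d h1 h2 h
    rw [Fin.natCast_eq_zero] at h
    have := Nat.le_of_dvd (by omega) h
    omega
  have hPd : ∀ d : ℕ, 1 ≤ d → d ≤ n → ∀ i : Fin (n + 1), P i (i + (d : Fin (n + 1))) := by
    intro d hd
    induction d, hd using Nat.le_induction with
    | base => intro _ i; simpa using hP1' i
    | succ d hd ih =>
      intro hdn i hij c
      have h1 : i ≠ i + (d : Fin (n + 1)) := by
        intro h
        exact hne d hd (by omega) (by simpa using h.symm)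
      have h2 : i + (d : Fin (n + 1)) ≠ i + ((d + 1 : ℕ) : Fin (n + 1)) := by
        intro h
        rw [Nat.cast_succ, ← add_assoc] at h
        have : (1 : Fin (n + 1)) = 0 := by simpa using h.symm
        exact one_ne_zero this
      have h3 := transvection_commutator hij h1 h2 c 1
      rw [mul_one] at h3
      rw [← h3]
      have h4 := ih (by omega) i h1 c
      have h5 : SpecialLinearGroup.transvection h2 (1 : K) ∈ H := by
        have := hP1' (i + (d : Fin (n + 1)))
        have h6 : i + (d : Fin (n + 1)) + 1 = i + ((d + 1 : ℕ) : Fin (n + 1)) := by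
          rw [Nat.cast_succ, add_assoc]
        rw [h6] at this
        exact this h2 1
      exact Subgroup.commutator_mem_commutator h4 h5 |> fun h => (Subgroup.commutator_le_self H) h
  refine le_antisymm le_top (fun A _ => transvection_induction _ ?_ (fun _ _ => H.mul_mem) A)
  intro i j hij c
  have h1 : j = i + (((j - i).val : ℕ) : Fin (n + 1)) := by
    rw [Fin.cast_val_eq_self]; ring
  have h2 : 1 ≤ (j - i).val := by
    rw [Nat.one_le_iff_ne_zero]
    intro h
    have : j - i = 0 := Fin.ext h
    exact hij (sub_eq_zero.mp this).symm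
  have h3 : (j - i).val ≤ n := Nat.lt_succ_iff.mp (j - i).2
  have h4 := hPd _ h2 h3 i
  rw [← h1] at h4
  exact h4 hij c

end Cfsg.Agent.Lib.Helper12
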