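import Mathlib
import Cfsg.Prelude.Def_ClassicalGeometry
import Cfsg.Agent.Lib.Helper6.SympMore
import Cfsg.Agent.Lib.Helper12.UnitaryCount

set_option autoImplicit false

namespace Cfsg.Agent.Lib.Helper12

open Matrix Cfsg Cfsg.Agent.Lib.Helper6

variable {F : Type*} [Field F]

/-- number of `v` with `f(u,v) = 1`, for `u ≠ 0`. -/
theorem card_symp_eq_one [Fintype F] (m : ℕ) (u : Fin m ⊕ Fin m → F) (hu : u ≠ 0) :
    Fintype.card F * Nat.card {v : Fin m ⊕ Fin m → F // sympForm m F u v = 1}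
      = Fintype.card F ^ (2 * m) := by
  classical
  obtain ⟨v0, hv0⟩ := exists_sympForm_eq_one m u hu
  have hfib : ∀ c : F, Nat.card {v : Fin m ⊕ Fin m → F // sympForm m F u v = c}
      = Nat.card {v : Fin m ⊕ Fin m → F // sympForm m F u v = 1} := by
    intro c
    refine Nat.card_congr ⟨fun v => ⟨v.1 + (1 - c) • v0, ?_⟩, fun v => ⟨v.1 - (1 - c) • v0, ?_⟩,
      ?_, ?_⟩
    · rw [sympForm_add_right, sympForm_smul_right, hv0, v.2]; ring
    · rw [sympForm_sub_right, sympForm_smul_right, hv0, v.2]; ring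
    · intro v; ext1; simp
    · intro v; ext1; simp
  have htot : Nat.card (Fin m ⊕ Fin m → F)
      = ∑ c : F, Nat.card {v : Fin m ⊕ Fin m → F // sympForm m F u v = c} := by
    rw [Nat.card_congr (Equiv.sigmaFiberEquiv (fun v : Fin m ⊕ Fin m → F => sympForm m F u v)).symm,
      Nat.card_sigma]
  rw [Finset.sum_congr rfl fun c _ => hfib c, Finset.sum_const, smul_eq_mul, Finset.card_univ,
    Nat.card_eq_fintype_card, Fintype.card_fun, Fintype.card_sum, Fintype.card_fin] at htot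
  rw [← htot, two_mul]

/-- the type of hyperbolic pairs. -/
abbrev HypPair (m : ℕ) (F : Type*) [Field F] : Type _ :=
  {p : (Fin m ⊕ Fin m → F) × (Fin m ⊕ Fin m → F) // sympForm m F p.1 p.2 = 1}

theorem card_hypPair [Fintype F] (m : ℕ) :
    Fintype.card F * Nat.card (HypPair m F)
      = (Fintype.card F ^ (2 * m) - 1) * Fintype.card F ^ (2 * m) := by
  classical
  have h1 : Nat.card (HypPair m F) = ∑ u : Fin m ⊕ Fin m → F,
      Nat.card {v : Fin m ⊕ Fin m → F // sympForm m F u v = 1} := by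
    simp only [HypPair, Nat.card_eq_fintype_card, Fintype.card_subtype, Finset.card_filter]
    rw [Fintype.sum_prod_type]
  rw [h1, Finset.mul_sum]
  have h2 : ∀ u : Fin m ⊕ Fin m → F,
      Fintype.card F * Nat.card {v : Fin m ⊕ Fin m → F // sympForm m F u v = 1}
        = if u = 0 then 0 else Fintype.card F ^ (2 * m) := by
    intro u
    split_ifs with hu
    · subst hu
      have : IsEmpty {v : Fin m ⊕ Fin m → F // sympForm m F 0 v = 1} := by
        refine ⟨fun v => ?_⟩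
        have := v.2
        rw [sympForm_zero_left] at this
        exact zero_ne_one this
      rw [Nat.card_of_isEmpty, mul_zero]
    · exact card_symp_eq_one m u hu
  rw [Finset.sum_congr rfl fun u _ => h2 u, sum_ite_const']
  simp [two_mul]

/-- index embedding. -/
def iS (m : ℕ) : Fin m ⊕ Fin m → Fin (m + 1) ⊕ Fin (m + 1) := Sum.map Fin.succ Fin.succ

/-- extension of a vector by zero. -/
def rowExt {m : ℕ} (r : Fin m ⊕ Fin m → F) : Fin (m + 1) ⊕ Fin (m + 1) → F :=
  Sum.elim (Fin.cons 0 (fun a => r (Sum.inl a))) (Fin.cons 0 (fun a => r (Sum.inr a)))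

/-- extension of a matrix by the identity on the first hyperbolic pair. -/
def extS {m : ℕ} (A : Matrix (Fin m ⊕ Fin m) (Fin m ⊕ Fin m) F) :
    Matrix (Fin (m + 1) ⊕ Fin (m + 1)) (Fin (m + 1) ⊕ Fin (m + 1)) F :=
  Matrix.of (Sum.elim (Fin.cons (Pi.single (Sum.inl 0) 1) (fun a => rowExt (A (Sum.inl a))))
    (Fin.cons (Pi.single (Sum.inr 0) 1) (fun a => rowExt (A (Sum.inr a)))))

theorem rowExt_dot {m : ℕ} (r : Fin m ⊕ Fin m → F) (x : Fin (m + 1) ⊕ Fin (m + 1) → F) :
    rowExt r ⬝ᵥ x = r ⬝ᵥ (x ∘ iS m) := by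
  simp [dotProduct, Fintype.sum_sum_type, Fin.sum_univ_succ, rowExt, iS]

theorem rowExt_comp {m : ℕ} (r : Fin m ⊕ Fin m → F) : rowExt r ∘ iS m = r := by
  ext i
  rcases i with i | i <;> simp [rowExt, iS]

theorem rowExt_inl {m : ℕ} (r : Fin m ⊕ Fin m → F) : rowExt r (Sum.inl 0) = 0 := by
  simp [rowExt]

theorem rowExt_inr {m : ℕ} (r : Fin m ⊕ Fin m → F) : rowExt r (Sum.inr 0) = 0 := by
  simp [rowExt]

theorem extS_mulVec_inl {m : ℕ} (A : Matrix (Fin m ⊕ Fin m) (Fin m ⊕ Fin m) F)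
    (x : Fin (m + 1) ⊕ Fin (m + 1) → F) : (extS A *ᵥ x) (Sum.inl 0) = x (Sum.inl 0) := by
  simp [extS, mulVec]

theorem extS_mulVec_inr {m : ℕ} (A : Matrix (Fin m ⊕ Fin m) (Fin m ⊕ Fin m) F)
    (x : Fin (m + 1) ⊕ Fin (m + 1) → F) : (extS A *ᵥ x) (Sum.inr 0) = x (Sum.inr 0) := by
  simp [extS, mulVec]

theorem extS_mulVec_comp {m : ℕ} (A : Matrix (Fin m ⊕ Fin m) (Fin m ⊕ Fin m) F)
    (x : Fin (m + 1) ⊕ Fin (m + 1) → F) : (extS A *ᵥ x) ∘ iS m = A *ᵥ (x ∘ iS m) := by
  ext i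
  rcases i with i | i
  · simp only [Function.comp, iS, Sum.map_inl, mulVec, extS, of_apply, Sum.elim_inl, Fin.cons_succ]
    exact rowExt_dot _ _
  · simp only [Function.comp, iS, Sum.map_inr, mulVec, extS, of_apply, Sum.elim_inr, Fin.cons_succ]
    exact rowExt_dot _ _

theorem symp_succ (m : ℕ) (x y : Fin (m + 1) ⊕ Fin (m + 1) → F) :
    sympForm (m + 1) F x y = x (Sum.inr 0) * y (Sum.inl 0) - x (Sum.inl 0) * y (Sum.inr 0)
      + sympForm m F (x ∘ iS m) (y ∘ iS m) := by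
  rw [sympForm_explicit, sympForm_explicit, Fin.sum_univ_succ]
  rfl

theorem extS_mem {m : ℕ} {A : Matrix (Fin m ⊕ Fin m) (Fin m ⊕ Fin m) F}
    (hA : A ∈ symplecticGroup (Fin m) F) : extS A ∈ symplecticGroup (Fin (m + 1)) F := by
  rw [mem_symplecticGroup_iff_sympForm] at hA ⊢
  intro u v
  rw [symp_succ, symp_succ, extS_mulVec_inl, extS_mulVec_inl, extS_mulVec_inr, extS_mulVec_inr,
    extS_mulVec_comp, extS_mulVec_comp, hA]

theorem extS_injective {m : ℕ} :
    Function.Injective (extS : Matrix (Fin m ⊕ Fin m) (Fin m ⊕ Fin m) F → _) := by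
  intro A B h
  ext i j
  have := congrFun (congrFun h (iS m i)) (iS m j)
  rcases i with i | i <;> rcases j with j | j <;> simpa [extS, iS, rowExt] using this

theorem vecS_ext {m : ℕ} {x y : Fin (m + 1) ⊕ Fin (m + 1) → F} (h1 : x (Sum.inl 0) = y (Sum.inl 0))
    (h2 : x (Sum.inr 0) = y (Sum.inr 0)) (h3 : x ∘ iS m = y ∘ iS m) : x = y := by
  ext i
  rcases i with i | i
  · refine Fin.cases h1 (fun k => ?_) i
    exact congrFun h3 (Sum.inl k)
  · refine Fin.cases h2 (fun k => ?_) i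
    exact congrFun h3 (Sum.inr k)

theorem single_inl_comp (m : ℕ) :
    (Pi.single (Sum.inl 0) 1 : Fin (m + 1) ⊕ Fin (m + 1) → F) ∘ iS m = 0 := by
  ext i
  rcases i with i | i <;> simp [iS, Pi.single_apply, Fin.succ_ne_zero]

theorem single_inr_comp (m : ℕ) :
    (Pi.single (Sum.inr 0) 1 : Fin (m + 1) ⊕ Fin (m + 1) → F) ∘ iS m = 0 := by
  ext i
  rcases i with i | i <;> simp [iS, Pi.single_apply, Fin.succ_ne_zero]

theorem extS_fix_inl {m : ℕ} (A : Matrix (Fin m ⊕ Fin m) (Fin m ⊕ Fin m) F) :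
    extS A *ᵥ (Pi.single (Sum.inl 0) 1) = Pi.single (Sum.inl 0) 1 := by
  apply vecS_ext
  · rw [extS_mulVec_inl]
  · rw [extS_mulVec_inr]
  · rw [extS_mulVec_comp, single_inl_comp, mulVec_zero]

theorem extS_fix_inr {m : ℕ} (A : Matrix (Fin m ⊕ Fin m) (Fin m ⊕ Fin m) F) :
    extS A *ᵥ (Pi.single (Sum.inr 0) 1) = Pi.single (Sum.inr 0) 1 := by
  apply vecS_ext
  · rw [extS_mulVec_inl]
  · rw [extS_mulVec_inr]
  · rw [extS_mulVec_comp, single_inr_comp, mulVec_zero]

theorem exists_extS_of_fix {m : ℕ}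
    {M : Matrix (Fin (m + 1) ⊕ Fin (m + 1)) (Fin (m + 1) ⊕ Fin (m + 1)) F}
    (hM : M ∈ symplecticGroup (Fin (m + 1)) F)
    (hl : M *ᵥ (Pi.single (Sum.inl 0) 1) = Pi.single (Sum.inl 0) 1)
    (hr : M *ᵥ (Pi.single (Sum.inr 0) 1) = Pi.single (Sum.inr 0) 1) :
    ∃ A ∈ symplecticGroup (Fin m) F, extS A = M := by
  rw [mem_symplecticGroup_iff_sympForm] at hM
  have hcolL : ∀ i, M i (Sum.inl 0) = (Pi.single (Sum.inl 0) 1 : Fin (m + 1) ⊕ Fin (m + 1) → F) i := by
    intro i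
    have := congrFun hl i
    simpa using this
  have hcolR : ∀ i, M i (Sum.inr 0) = (Pi.single (Sum.inr 0) 1 : Fin (m + 1) ⊕ Fin (m + 1) → F) i := by
    intro i
    have := congrFun hr i
    simpa using this
  have hrowR : ∀ x : Fin (m + 1) ⊕ Fin (m + 1) → F, (M *ᵥ x) (Sum.inr 0) = x (Sum.inr 0) := by
    intro x
    have h1 := hM x (Pi.single (Sum.inl 0) 1)
    rw [hl, sympForm_single_inl, sympForm_single_inl] at h1
    exact h1
  have hrowL : ∀ x : Fin (m + 1) ⊕ Fin (m + 1) → F, (M *ᵥ x) (Sum.inl 0) = x (Sum.inl 0) := by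
    intro x
    have h1 := hM x (Pi.single (Sum.inr 0) 1)
    rw [hr, sympForm_single_inr, sympForm_single_inr] at h1
    exact neg_injective h1
  have hrowL' : ∀ j, M (Sum.inl 0) j = (Pi.single (Sum.inl 0) 1 : Fin (m + 1) ⊕ Fin (m + 1) → F) j := by
    intro j
    have := hrowL (Pi.single j 1)
    simp only [Matrix.mulVec_single_one, Matrix.col_apply] at this
    rw [this, Pi.single_apply, Pi.single_apply]
    simp only [eq_comm]
  have hrowR' : ∀ j, M (Sum.inr 0) j = (Pi.single (Sum.inr 0) 1 : Fin (m + 1) ⊕ Fin (m + 1) → F) j := by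
    intro j
    have := hrowR (Pi.single j 1)
    simp only [Matrix.mulVec_single_one, Matrix.col_apply] at this
    rw [this, Pi.single_apply, Pi.single_apply]
    simp only [eq_comm]
  have hE : extS (M.submatrix (iS m) (iS m)) = M := by
    ext i j
    rcases i with i | i
    · refine Fin.cases ?_ (fun a => ?_) i
      · rw [hrowL']; simp [extS]
      · rcases j with j | j
        · refine Fin.cases ?_ (fun b => ?_) j
          · rw [hcolL]; simp [extS, rowExt]
          · simp [extS, rowExt, iS]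
        · refine Fin.cases ?_ (fun b => ?_) j
          · rw [hcolR]; simp [extS, rowExt]
          · simp [extS, rowExt, iS]
    · refine Fin.cases ?_ (fun a => ?_) i
      · rw [hrowR']; simp [extS]
      · rcases j with j | j
        · refine Fin.cases ?_ (fun b => ?_) j
          · rw [hcolL]; simp [extS, rowExt]
          · simp [extS, rowExt, iS]
        · refine Fin.cases ?_ (fun b => ?_) j
          · rw [hcolR]; simp [extS, rowExt]
          · simp [extS, rowExt, iS]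
  refine ⟨M.submatrix (iS m) (iS m), ?_, hE⟩
  rw [mem_symplecticGroup_iff_sympForm]
  intro u v
  have h1 := hM (rowExt u) (rowExt v)
  rw [← hE, symp_succ, symp_succ, extS_mulVec_inl, extS_mulVec_inl, extS_mulVec_inr,
    extS_mulVec_inr, extS_mulVec_comp, extS_mulVec_comp, rowExt_comp, rowExt_comp] at h1
  exact add_left_cancel h1

/-- the action of `Sp` on hyperbolic pairs. -/
@[reducible] noncomputable def spAction (m : ℕ) :
    MulAction (symplecticGroup (Fin m) F) (HypPair m F) where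
  smul g p := ⟨((g : Matrix (Fin m ⊕ Fin m) (Fin m ⊕ Fin m) F) *ᵥ p.1.1,
    (g : Matrix (Fin m ⊕ Fin m) (Fin m ⊕ Fin m) F) *ᵥ p.1.2), by
      rw [sympForm_mulVec]; exact p.2⟩
  one_smul p := by
    apply Subtype.ext
    change (((1 : Matrix (Fin m ⊕ Fin m) (Fin m ⊕ Fin m) F) *ᵥ p.1.1,
      (1 : Matrix (Fin m ⊕ Fin m) (Fin m ⊕ Fin m) F) *ᵥ p.1.2) : _ × _) = p.1
    simp
  mul_smul g h p := by
    apply Subtype.ext
    change ((((g : Matrix (Fin m ⊕ Fin m) (Fin m ⊕ Fin m) F)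
        * (h : Matrix (Fin m ⊕ Fin m) (Fin m ⊕ Fin m) F)) *ᵥ p.1.1,
      ((g : Matrix (Fin m ⊕ Fin m) (Fin m ⊕ Fin m) F)
        * (h : Matrix (Fin m ⊕ Fin m) (Fin m ⊕ Fin m) F)) *ᵥ p.1.2) : _ × _)
      = ((g : Matrix (Fin m ⊕ Fin m) (Fin m ⊕ Fin m) F) *ᵥ
          ((h : Matrix (Fin m ⊕ Fin m) (Fin m ⊕ Fin m) F) *ᵥ p.1.1),
        (g : Matrix (Fin m ⊕ Fin m) (Fin m ⊕ Fin m) F) *ᵥ
          ((h : Matrix (Fin m ⊕ Fin m) (Fin m ⊕ Fin m) F) *ᵥ p.1.2))
    rw [Matrix.mulVec_mulVec, Matrix.mulVec_mulVec]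

set_option synthInstance.maxHeartbeats 400000 in
theorem card_Sp_succ [Finite F] (m : ℕ) :
    Nat.card (symplecticGroup (Fin (m + 1)) F)
      = Nat.card (HypPair (m + 1) F) * Nat.card (symplecticGroup (Fin m) F) := by
  classical
  let _ := spAction (F := F) (m + 1)
  have hsmul1 : ∀ (g : symplecticGroup (Fin (m + 1)) F) (p : HypPair (m + 1) F),
      (g • p).1.1 = (g : Matrix (Fin (m + 1) ⊕ Fin (m + 1)) (Fin (m + 1) ⊕ Fin (m + 1)) F) *ᵥ p.1.1 :=
    fun _ _ => rfl
  have hsmul2 : ∀ (g : symplecticGroup (Fin (m + 1)) F) (p : HypPair (m + 1) F),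
      (g • p).1.2 = (g : Matrix (Fin (m + 1) ⊕ Fin (m + 1)) (Fin (m + 1) ⊕ Fin (m + 1)) F) *ᵥ p.1.2 :=
    fun _ _ => rfl
  have he : sympForm (m + 1) F (Pi.single (Sum.inr 0) 1) (Pi.single (Sum.inl 0) 1) = 1 := by
    rw [sympForm_single_inl]; simp
  set e0 : HypPair (m + 1) F := ⟨(Pi.single (Sum.inr 0) 1, Pi.single (Sum.inl 0) 1), he⟩ with he0
  have h1 := (MulAction.stabilizer (symplecticGroup (Fin (m + 1)) F) e0).card_mul_index
  rw [MulAction.index_stabilizer] at h1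
  have horb : MulAction.orbit (symplecticGroup (Fin (m + 1)) F) e0 = Set.univ := by
    ext p
    simp only [Set.mem_univ, iff_true]
    obtain ⟨g, -, hg1, hg2⟩ := sympTv_trans_pair (m + 1) ⊤ e0.1.1 e0.1.2 p.1.1 p.1.2
      trivial trivial trivial trivial he p.2
    exact ⟨g, Subtype.ext (Prod.ext (by change (g • e0).1.1 = _; rw [hsmul1, hg1])
      (by change (g • e0).1.2 = _; rw [hsmul2, hg2]))⟩
  have hstab : Nat.card (MulAction.stabilizer (symplecticGroup (Fin (m + 1)) F) e0)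
      = Nat.card (symplecticGroup (Fin m) F) := by
    symm
    let f : symplecticGroup (Fin m) F → MulAction.stabilizer (symplecticGroup (Fin (m + 1)) F) e0 :=
      fun A => ⟨⟨extS A.1, extS_mem A.2⟩, by
        rw [MulAction.mem_stabilizer_iff]
        apply Subtype.ext
        apply Prod.ext
        · rw [hsmul1]; exact extS_fix_inr _
        · rw [hsmul2]; exact extS_fix_inl _⟩
    refine Nat.card_congr (Equiv.ofBijective f ⟨?_, ?_⟩)
    · intro A B hAB
      have := congrArg (fun x : MulAction.stabilizer (symplecticGroup (Fin (m + 1)) F) e0 =>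
        (x.1.1 : Matrix (Fin (m + 1) ⊕ Fin (m + 1)) (Fin (m + 1) ⊕ Fin (m + 1)) F)) hAB
      exact Subtype.ext (extS_injective this)
    · intro g
      have hg := MulAction.mem_stabilizer_iff.mp g.2
      have hfr : (g.1.1 : Matrix (Fin (m + 1) ⊕ Fin (m + 1)) (Fin (m + 1) ⊕ Fin (m + 1)) F) *ᵥ
          (Pi.single (Sum.inr 0) 1) = Pi.single (Sum.inr 0) 1 := by
        have := congrArg (fun x : HypPair (m + 1) F => x.1.1) hg
        exact this
      have hfl : (g.1.1 : Matrix (Fin (m + 1) ⊕ Fin (m + 1)) (Fin (m + 1) ⊕ Fin (m + 1)) F) *ᵥ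
          (Pi.single (Sum.inl 0) 1) = Pi.single (Sum.inl 0) 1 := by
        have := congrArg (fun x : HypPair (m + 1) F => x.1.2) hg
        exact this
      obtain ⟨A, hA, hAM⟩ := exists_extS_of_fix g.1.2 hfl hfr
      exact ⟨⟨A, hA⟩, Subtype.ext (Subtype.ext hAM)⟩
  rw [hstab, horb, Set.ncard_univ] at h1
  rw [← h1, mul_comm]

theorem card_Sp [Fintype F] {q : ℕ} (hF : Fintype.card F = q) (m : ℕ) :
    Nat.card (symplecticGroup (Fin m) F)
      = q ^ (m ^ 2) * ∏ i ∈ Finset.range m, (q ^ (2 * (i + 1)) - 1) := by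
  have hq : 0 < q := by rw [← hF]; exact Fintype.card_pos
  induction m with
  | zero =>
    simp only [Finset.range_zero, Finset.prod_empty, mul_one]
    have : q ^ 0 ^ 2 = 1 := by simp
    rw [this, Nat.card_eq_one_iff_unique]
    refine ⟨⟨fun a b => Subtype.ext ?_⟩, ⟨1⟩⟩
    ext i
    rcases i with i | i <;> exact i.elim0
  | succ m ih =>
    have h1 := card_hypPair (F := F) (m + 1)
    rw [hF] at h1
    have h2 : Nat.card (HypPair (m + 1) F) = (q ^ (2 * (m + 1)) - 1) * q ^ (2 * m + 1) := by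
      apply Nat.eq_of_mul_eq_mul_left hq
      rw [h1]
      have : q ^ (2 * (m + 1)) = q * q ^ (2 * m + 1) := by ring
      nth_rewrite 2 [this]
      ring
    rw [card_Sp_succ, ih, h2, Finset.prod_range_succ]
    have : (m + 1) ^ 2 = m ^ 2 + (2 * m + 1) := by ring
    rw [this, pow_add]
    ring

end Cfsg.Agent.Lib.Helper12
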