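import Mathlib

set_option autoImplicit false

namespace Cfsg.Agent.Lib.Helper12

open Matrix

variable {F : Type*} [Field F]

/-- A linear automorphism carrying one linearly independent family to another. -/
theorem exists_linearEquiv_of_linearIndependent {V : Type*} [AddCommGroup V] [Module F V]
    {k : ℕ} {v v' : Fin k → V} (hv : LinearIndependent F v) (hv' : LinearIndependent F v') :
    ∃ g : V ≃ₗ[F] V, ∀ i, g (v i) = v' i := by
  let f := hv.linearCombinationEquiv.symm ≪≫ₗ hv'.linearCombinationEquiv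
  have : FiniteDimensional F (Submodule.span F (Set.range v)) :=
    FiniteDimensional.span_of_finite F (Set.finite_range _)
  obtain ⟨g, hg⟩ := Submodule.exists_linearEquiv_restrict_eq f
  refine ⟨g, fun i => ?_⟩
  have h1 : hv.linearCombinationEquiv (Finsupp.single i 1) =
      ⟨v i, Submodule.subset_span (Set.mem_range_self i)⟩ := by
    apply Subtype.ext; simp
  have h2 : (hv'.linearCombinationEquiv (Finsupp.single i 1) : V) = v' i := by simp
  have h3 := hg ⟨v i, Submodule.subset_span (Set.mem_range_self i)⟩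
  rw [← h1] at h3
  simp only [f, LinearEquiv.trans_apply, LinearEquiv.symm_apply_apply] at h3
  rw [h2, h1] at h3
  exact h3.symm

/-- The `GL` element of a linear automorphism of `Fin n → F`. -/
theorem exists_GL_of_linearEquiv {n : ℕ} (g : (Fin n → F) ≃ₗ[F] (Fin n → F)) :
    ∃ G : GL (Fin n) F, ∀ x, (G : Matrix (Fin n) (Fin n) F) *ᵥ x = g x := by
  refine ⟨⟨LinearMap.toMatrix' g.toLinearMap, LinearMap.toMatrix' g.symm.toLinearMap, ?_, ?_⟩, ?_⟩
  · rw [← LinearMap.toMatrix'_comp]; simp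
  · rw [← LinearMap.toMatrix'_comp]; simp
  · intro x
    simp [LinearMap.toMatrix'_mulVec]

theorem exists_vecMulVec_of_rank_one {n : ℕ} (M : Matrix (Fin n) (Fin n) F) (h : M.rank = 1) :
    ∃ u φ : Fin n → F, M = Matrix.vecMulVec u φ := by
  have h1 : Module.finrank F (LinearMap.range M.mulVecLin) = 1 := h
  obtain ⟨⟨u, hu⟩, hu0, hspan⟩ := finrank_eq_one_iff'.mp h1
  choose c hc using fun j : Fin n =>
    hspan ⟨M.mulVecLin (Pi.single j 1), LinearMap.mem_range_self _ _⟩
  refine ⟨u, c, ?_⟩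
  ext i j
  have := congrArg (fun x : LinearMap.range M.mulVecLin => (x : Fin n → F) i) (hc j)
  simp at this
  simp [Matrix.vecMulVec_apply, ← this, mul_comm]

/-- Normal form data for `1 + u φᵀ` with `φ u = 0`. -/
theorem exists_linearEquiv_normal {n : ℕ} (u φ : Fin n → F) (hu : u ≠ 0) (hφ : φ ≠ 0)
    (h0 : φ ⬝ᵥ u = 0) (i0 i1 : Fin n) (h01 : i0 ≠ i1) :
    ∃ g : (Fin n → F) ≃ₗ[F] (Fin n → F), g (Pi.single i0 1) = u ∧ ∀ x, φ ⬝ᵥ g x = x i1 := by
  classical
  obtain ⟨j, hj⟩ : ∃ j, φ j ≠ 0 := by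
    by_contra hcon
    push Not at hcon
    exact hφ (funext hcon)
  set w : Fin n → F := Pi.single j (φ j)⁻¹ with hw
  have hφw : φ ⬝ᵥ w = 1 := by
    rw [hw, dotProduct_single, mul_inv_cancel₀ hj]
  have hi1 : LinearIndependent F ![u, w] := by
    rw [LinearIndependent.pair_iff]
    intro a b hab
    have h1 := congrArg (fun x => φ ⬝ᵥ x) hab
    simp only [dotProduct_add, dotProduct_smul, h0, hφw, dotProduct_zero, smul_eq_mul, mul_zero,
      mul_one, zero_add] at h1
    subst h1
    simp only [zero_smul, add_zero, smul_eq_zero] at hab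
    exact ⟨hab.resolve_right hu, rfl⟩
  have hi2 : LinearIndependent F ![(Pi.single i0 1 : Fin n → F), Pi.single i1 1] := by
    rw [LinearIndependent.pair_iff]
    intro a b hab
    have h1 := congrFun hab i0
    have h2 := congrFun hab i1
    simp [Pi.single_apply, h01, h01.symm] at h1 h2
    exact ⟨h1, h2⟩
  obtain ⟨g1, hg1⟩ := exists_linearEquiv_of_linearIndependent hi2 hi1
  have hg10 : g1 (Pi.single i0 1) = u := hg1 0
  have hg11 : g1 (Pi.single i1 1) = w := hg1 1
  let ψ : (Fin n → F) →ₗ[F] F :=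
    { toFun := fun x => φ ⬝ᵥ g1 x
      map_add' := fun x y => by simp [dotProduct_add]
      map_smul' := fun a x => by simp [dotProduct_smul] }
  let δ : (Fin n → F) →ₗ[F] F := LinearMap.proj i1 - ψ
  have hδ1 : δ (Pi.single i1 1) = 0 := by
    simp [δ, ψ, hg11, hφw]
  have hδ0 : δ (Pi.single i0 1) = 0 := by
    simp [δ, ψ, hg10, h0, h01]
  let g2 := LinearEquiv.transvection (f := δ) (v := Pi.single i1 1) hδ1
  refine ⟨g2.trans g1, ?_, ?_⟩
  · rw [LinearEquiv.trans_apply, LinearEquiv.transvection.apply, hδ0, zero_smul, add_zero, hg10]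
  · intro x
    simp only [LinearEquiv.trans_apply, g2, LinearEquiv.transvection.apply, map_add, map_smul,
      hg11, dotProduct_add, dotProduct_smul, hφw]
    simp [δ, ψ]

theorem transvection_mulVec {n : ℕ} (i0 i1 : Fin n) (c : F) (x : Fin n → F) :
    Matrix.transvection i0 i1 c *ᵥ x = x + (c * x i1) • Pi.single i0 1 := by
  rw [Matrix.transvection, Matrix.add_mulVec, Matrix.one_mulVec]
  congr 1
  ext k
  by_cases hk : i0 = k
  · subst hk
    simp [Matrix.mulVec, dotProduct, Matrix.single_apply]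
  · simp [Matrix.mulVec, dotProduct, Matrix.single_apply, hk, Ne.symm hk]

/-- A matrix `t` with `t - 1` of rank one and square zero is `GL`-conjugate to a
standard transvection. -/
theorem exists_GL_conj_transvection {n : ℕ} (t : Matrix (Fin n) (Fin n) F)
    (h1 : (t - 1).rank = 1) (h2 : (t - 1) * (t - 1) = 0) (i0 i1 : Fin n) (h01 : i0 ≠ i1) :
    ∃ G : GL (Fin n) F, t * (G : Matrix (Fin n) (Fin n) F) =
      (G : Matrix (Fin n) (Fin n) F) * Matrix.transvection i0 i1 1 := by
  obtain ⟨u, φ, huφ⟩ := exists_vecMulVec_of_rank_one _ h1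
  have hne : t - 1 ≠ 0 := by
    intro h; rw [h, Matrix.rank_zero] at h1; exact zero_ne_one h1
  have hu : u ≠ 0 := by
    rintro rfl; apply hne; rw [huφ]; ext; simp [vecMulVec_apply]
  have hφ : φ ≠ 0 := by
    rintro rfl; apply hne; rw [huφ]; ext; simp [vecMulVec_apply]
  have h0 : φ ⬝ᵥ u = 0 := by
    rw [huφ, Matrix.vecMulVec_mul_vecMulVec] at h2
    by_contra hcon
    apply hne
    rw [huφ]
    ext i j
    have h3 := congrFun (congrFun h2 i) j
    simp only [vecMulVec_apply, Pi.smul_apply, smul_eq_mul, Matrix.zero_apply] at h3 ⊢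
    have h4 : (φ ⬝ᵥ u) * (u i * φ j) = 0 := by rw [← h3]; ring
    exact (mul_eq_zero.mp h4).resolve_left hcon
  obtain ⟨g, hg0, hg1⟩ := exists_linearEquiv_normal u φ hu hφ h0 i0 i1 h01
  obtain ⟨G, hG⟩ := exists_GL_of_linearEquiv g
  refine ⟨G, ?_⟩
  have ht : t = 1 + vecMulVec u φ := by rw [← huφ]; abel
  apply Matrix.toLin'.injective
  apply LinearMap.ext
  intro x
  simp only [Matrix.toLin'_apply, ← Matrix.mulVec_mulVec, hG, transvection_mulVec, map_add,
    map_smul, hg0, ht, Matrix.add_mulVec, Matrix.one_mulVec, Matrix.vecMulVec_mulVec]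
  rw [hg1, one_mul]
  congr 1
  ext k
  simp [mul_comm]

theorem transvection_mul_diagonal {n : ℕ} (i0 i1 : Fin n) (h01 : i0 ≠ i1) (c c' : F)
    (w : Fin n → F) (h : c * w i1 = w i0 * c') :
    Matrix.transvection i0 i1 c * Matrix.diagonal w =
      Matrix.diagonal w * Matrix.transvection i0 i1 c' := by
  ext i j
  rw [Matrix.mul_diagonal, Matrix.diagonal_mul]
  simp only [Matrix.transvection, Matrix.add_apply, Matrix.single_apply, Matrix.one_apply]
  by_cases hi : i0 = i
  · subst hi
    by_cases hj : i1 = j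
    · subst hj
      simp [h01, h]
    · by_cases hij : i0 = j
      · subst hij; simp [hj, mul_comm]
      · simp [hj, hij]
  · by_cases hij : i = j
    · subst hij; simp [hi, mul_comm]
    · simp [hi, hij]

/-- `SL`-version: a matrix `t` with `t - 1` of rank one and square zero is `SL`-conjugate to
`transvection i0 i1 c` for some `c ≠ 0`. -/
theorem exists_SL_conj_transvection {n : ℕ} (t : Matrix (Fin n) (Fin n) F)
    (h1 : (t - 1).rank = 1) (h2 : (t - 1) * (t - 1) = 0) (i0 i1 : Fin n) (h01 : i0 ≠ i1) :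
    ∃ (G : Matrix.SpecialLinearGroup (Fin n) F) (c : F), c ≠ 0 ∧
      t * (G : Matrix (Fin n) (Fin n) F) =
      (G : Matrix (Fin n) (Fin n) F) * Matrix.transvection i0 i1 c := by
  obtain ⟨G, hG⟩ := exists_GL_conj_transvection t h1 h2 i0 i1 h01
  set d := (G : Matrix (Fin n) (Fin n) F).det with hd
  have hd0 : d ≠ 0 := by
    have := G.det.ne_zero
    simpa using this
  let w : Fin n → F := Function.update 1 i0 d⁻¹
  have hw : (Matrix.diagonal w).det = d⁻¹ := by
    rw [det_diagonal, Finset.prod_update_of_mem (Finset.mem_univ _)]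
    simp
  refine ⟨⟨(G : Matrix (Fin n) (Fin n) F) * Matrix.diagonal w, by
    rw [det_mul, hw, ← hd, mul_inv_cancel₀ hd0]⟩, d, hd0, ?_⟩
  show t * ((G : Matrix (Fin n) (Fin n) F) * Matrix.diagonal w) =
    (G : Matrix (Fin n) (Fin n) F) * Matrix.diagonal w * Matrix.transvection i0 i1 d
  rw [← mul_assoc, hG, mul_assoc, mul_assoc,
    transvection_mul_diagonal i0 i1 h01 1 d w (by simp [w, h01.symm, hd0])]

/-- `SL`-version for `n ≥ 3`. -/
theorem exists_SL_conj_transvection_one {n : ℕ} (t : Matrix (Fin n) (Fin n) F)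
    (h1 : (t - 1).rank = 1) (h2 : (t - 1) * (t - 1) = 0) (i0 i1 i2 : Fin n) (h01 : i0 ≠ i1)
    (h02 : i0 ≠ i2) (h12 : i1 ≠ i2) :
    ∃ (G : Matrix.SpecialLinearGroup (Fin n) F),
      t * (G : Matrix (Fin n) (Fin n) F) =
      (G : Matrix (Fin n) (Fin n) F) * Matrix.transvection i0 i1 1 := by
  obtain ⟨G, hG⟩ := exists_GL_conj_transvection t h1 h2 i0 i1 h01
  set d := (G : Matrix (Fin n) (Fin n) F).det with hd
  have hd0 : d ≠ 0 := by
    have := G.det.ne_zero
    simpa using this
  let w : Fin n → F := Function.update 1 i2 d⁻¹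
  have hw : (Matrix.diagonal w).det = d⁻¹ := by
    rw [det_diagonal, Finset.prod_update_of_mem (Finset.mem_univ _)]
    simp
  refine ⟨⟨(G : Matrix (Fin n) (Fin n) F) * Matrix.diagonal w, by
    rw [det_mul, hw, ← hd, mul_inv_cancel₀ hd0]⟩, ?_⟩
  show t * ((G : Matrix (Fin n) (Fin n) F) * Matrix.diagonal w) =
    (G : Matrix (Fin n) (Fin n) F) * Matrix.diagonal w * Matrix.transvection i0 i1 1
  rw [← mul_assoc, hG, mul_assoc, mul_assoc,
    transvection_mul_diagonal i0 i1 h01 1 1 w (by simp [w, h02, h12])]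

end Cfsg.Agent.Lib.Helper12
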